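import Mathlib

/-! Tables for the cover by matrices of degree sixteen over three elements. -/

set_option autoImplicit false
set_option maxRecDepth 100000

namespace Cfsg.Agent.Lib.SchurMult.PlusEight

/-- The coefficients on the axes attached to each vector. -/
def coefs : List (List ℕ) := [
    [0,0,0,0,0,0,0,0],
    [0,0,0,0,0,0,0,0],
    [0,0,0,0,0,0,0,0],
    [0,0,0,0,0,0,0,0],
    [0,0,0,0,0,0,0,0],
    [0,0,0,0,0,0,0,0],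
    [0,0,0,0,0,0,0,0],
    [0,0,0,0,0,0,0,0],
    [0,0,0,0,0,0,0,0],
    [0,0,0,0,0,0,0,0],
    [0,0,0,0,0,0,0,0],
    [0,0,0,0,0,0,0,0],
    [0,0,0,0,0,0,0,0],
    [0,0,0,0,0,0,0,0],
    [0,0,0,0,0,0,0,0],
    [0,0,0,0,0,0,0,0],
    [0,0,0,0,0,0,0,0],
    [0,2,1,1,1,0,0,0],
    [0,0,0,0,0,0,0,0],
    [0,2,2,2,1,0,0,0],
    [0,0,0,0,0,0,0,0],
    [0,2,1,2,2,0,0,0],
    [0,0,0,0,0,0,0,0],
    [0,2,2,1,2,0,0,0],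
    [0,0,0,0,0,0,0,0],
    [2,0,0,0,0,2,2,2],
    [0,0,0,0,0,0,0,0],
    [2,0,0,0,0,2,1,1],
    [0,0,0,0,0,0,0,0],
    [2,0,0,0,0,1,1,2],
    [0,0,0,0,0,0,0,0],
    [2,0,0,0,0,1,2,1],
    [0,0,0,0,0,0,0,0],
    [0,0,0,0,0,0,0,0],
    [0,0,0,2,1,1,2,0],
    [0,0,0,2,2,2,2,0],
    [0,0,0,0,0,0,0,0],
    [0,0,0,0,0,0,0,0],
    [0,0,0,2,1,2,1,0],
    [0,0,0,2,2,1,1,0],
    [0,0,0,0,0,0,0,0],
    [0,0,0,0,0,0,0,0],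
    [2,1,1,0,0,0,0,1],
    [2,1,2,0,0,0,0,2],
    [0,0,0,0,0,0,0,0],
    [0,0,0,0,0,0,0,0],
    [2,2,2,0,0,0,0,1],
    [2,2,1,0,0,0,0,2],
    [0,0,0,0,0,0,0,0],
    [0,2,2,0,0,2,1,0],
    [0,2,1,0,0,2,2,0],
    [0,0,0,0,0,0,0,0],
    [0,0,0,0,0,0,0,0],
    [0,2,2,0,0,1,2,0],
    [0,2,1,0,0,1,1,0],
    [0,0,0,0,0,0,0,0],
    [0,0,0,0,0,0,0,0],
    [2,0,0,2,1,0,0,1],
    [2,0,0,1,1,0,0,2],
    [0,0,0,0,0,0,0,0],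
    [0,0,0,0,0,0,0,0],
    [2,0,0,1,2,0,0,1],
    [2,0,0,2,2,0,0,2],
    [0,0,0,0,0,0,0,0],
    [0,0,0,0,0,0,0,0],
    [0,0,0,0,0,0,0,0],
    [0,0,0,0,0,0,0,0],
    [0,0,0,0,0,0,0,0],
    [0,0,2,1,0,0,2,1],
    [0,0,2,2,0,0,1,1],
    [0,0,2,1,0,0,1,2],
    [0,0,2,2,0,0,2,2],
    [0,0,0,0,0,0,0,0],
    [0,0,0,0,0,0,0,0],
    [0,0,0,0,0,0,0,0],
    [0,0,0,0,0,0,0,0],
    [2,2,0,0,2,1,0,0],
    [2,2,0,0,1,2,0,0],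
    [2,1,0,0,1,1,0,0],
    [2,1,0,0,2,2,0,0],
    [0,0,0,0,0,0,0,0],
    [0,2,0,0,2,0,2,1],
    [0,0,0,0,0,0,0,0],
    [0,2,0,0,2,0,1,2],
    [0,2,0,0,1,0,1,1],
    [0,0,0,0,0,0,0,0],
    [0,2,0,0,1,0,2,2],
    [0,0,0,0,0,0,0,0],
    [0,0,0,0,0,0,0,0],
    [2,0,2,1,0,1,0,0],
    [0,0,0,0,0,0,0,0],
    [2,0,1,2,0,1,0,0],
    [2,0,2,2,0,2,0,0],
    [0,0,0,0,0,0,0,0],
    [2,0,1,1,0,2,0,0],
    [0,0,0,0,0,0,0,0],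
    [0,0,0,0,0,0,0,0],
    [0,0,0,0,0,0,0,0],
    [0,0,2,0,1,2,0,1],
    [0,0,2,0,2,1,0,1],
    [0,0,2,0,1,1,0,2],
    [0,0,2,0,2,2,0,2],
    [0,0,0,0,0,0,0,0],
    [0,0,0,0,0,0,0,0],
    [0,0,0,0,0,0,0,0],
    [0,0,0,0,0,0,0,0],
    [2,2,0,2,0,0,1,0],
    [2,2,0,1,0,0,2,0],
    [2,1,0,1,0,0,1,0],
    [2,1,0,2,0,0,2,0],
    [0,0,0,0,0,0,0,0],
    [0,0,0,0,0,0,0,0],
    [0,0,0,0,0,0,0,0],
    [0,2,0,2,0,1,0,2],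
    [0,2,0,1,0,1,0,1],
    [0,0,0,0,0,0,0,0],
    [0,2,0,1,0,2,0,2],
    [0,0,0,0,0,0,0,0],
    [0,0,0,0,0,0,0,0],
    [0,2,0,2,0,2,0,1],
    [0,0,0,0,0,0,0,0],
    [2,0,1,0,2,0,1,0],
    [2,0,2,0,2,0,2,0],
    [0,0,0,0,0,0,0,0],
    [2,0,1,0,1,0,2,0],
    [0,0,0,0,0,0,0,0],
    [0,0,0,0,0,0,0,0],
    [2,0,2,0,1,0,1,0],
    [0,0,0,0,0,0,0,0],
    [0,0,0,0,0,0,0,0],
    [0,0,0,0,0,0,0,0],
    [0,0,0,0,0,0,0,0],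
    [0,0,0,0,0,0,0,0],
    [0,0,0,0,0,0,0,0],
    [0,0,0,0,0,0,0,0],
    [0,0,0,0,0,0,0,0],
    [1,0,0,0,0,0,0,0],
    [0,1,0,0,0,0,0,0],
    [0,0,0,0,0,1,0,0],
    [0,0,0,0,1,0,0,0],
    [0,0,0,0,0,0,0,1],
    [0,0,1,0,0,0,0,0],
    [0,0,0,0,0,0,1,0],
    [0,0,0,1,0,0,0,0],
    [0,0,0,0,0,0,0,0],
    [2,0,0,0,0,1,1,1],
    [0,0,0,0,0,0,0,0],
    [2,0,0,0,0,1,2,2],
    [0,0,0,0,0,0,0,0],
    [2,0,0,0,0,2,2,1],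
    [0,0,0,0,0,0,0,0],
    [2,0,0,0,0,2,1,2],
    [0,2,2,2,2,0,0,0],
    [0,0,0,0,0,0,0,0],
    [0,2,1,1,2,0,0,0],
    [0,0,0,0,0,0,0,0],
    [0,2,2,1,1,0,0,0],
    [0,0,0,0,0,0,0,0],
    [0,2,1,2,1,0,0,0],
    [0,0,0,0,0,0,0,0],
    [0,0,0,0,0,0,0,0],
    [0,0,0,0,0,0,0,0],
    [2,2,2,0,0,0,0,2],
    [2,2,1,0,0,0,0,1],
    [0,0,0,0,0,0,0,0],
    [0,0,0,0,0,0,0,0],
    [2,1,1,0,0,0,0,2],
    [2,1,2,0,0,0,0,1],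
    [0,0,0,2,1,2,2,0],
    [0,0,0,2,2,1,2,0],
    [0,0,0,0,0,0,0,0],
    [0,0,0,0,0,0,0,0],
    [0,0,0,2,1,1,1,0],
    [0,0,0,2,2,2,1,0],
    [0,0,0,0,0,0,0,0],
    [0,0,0,0,0,0,0,0],
    [0,0,0,0,0,0,0,0],
    [2,0,0,1,2,0,0,2],
    [2,0,0,2,2,0,0,1],
    [0,0,0,0,0,0,0,0],
    [0,0,0,0,0,0,0,0],
    [2,0,0,2,1,0,0,2],
    [2,0,0,1,1,0,0,1],
    [0,0,0,0,0,0,0,0],
    [0,2,1,0,0,1,2,0],
    [0,0,0,0,0,0,0,0],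
    [0,0,0,0,0,0,0,0],
    [0,2,2,0,0,1,1,0],
    [0,2,1,0,0,2,1,0],
    [0,0,0,0,0,0,0,0],
    [0,0,0,0,0,0,0,0],
    [0,2,2,0,0,2,2,0],
    [0,0,0,0,0,0,0,0],
    [0,0,0,0,0,0,0,0],
    [0,0,0,0,0,0,0,0],
    [0,0,0,0,0,0,0,0],
    [2,1,0,0,1,2,0,0],
    [2,1,0,0,2,1,0,0],
    [2,2,0,0,2,2,0,0],
    [2,2,0,0,1,1,0,0],
    [0,0,2,1,0,0,2,2],
    [0,0,2,2,0,0,1,2],
    [0,0,2,1,0,0,1,1],
    [0,0,2,2,0,0,2,1],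
    [0,0,0,0,0,0,0,0],
    [0,0,0,0,0,0,0,0],
    [0,0,0,0,0,0,0,0],
    [0,0,0,0,0,0,0,0],
    [0,0,0,0,0,0,0,0],
    [2,0,1,2,0,2,0,0],
    [0,0,0,0,0,0,0,0],
    [2,0,2,1,0,2,0,0],
    [2,0,1,1,0,1,0,0],
    [0,0,0,0,0,0,0,0],
    [2,0,2,2,0,1,0,0],
    [0,0,0,0,0,0,0,0],
    [0,2,0,0,1,0,1,2],
    [0,0,0,0,0,0,0,0],
    [0,2,0,0,1,0,2,1],
    [0,0,0,0,0,0,0,0],
    [0,0,0,0,0,0,0,0],
    [0,2,0,0,2,0,2,2],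
    [0,0,0,0,0,0,0,0],
    [0,2,0,0,2,0,1,1],
    [0,0,0,0,0,0,0,0],
    [0,0,0,0,0,0,0,0],
    [2,1,0,1,0,0,2,0],
    [2,1,0,2,0,0,1,0],
    [2,2,0,2,0,0,2,0],
    [2,2,0,1,0,0,1,0],
    [0,0,0,0,0,0,0,0],
    [0,0,0,0,0,0,0,0],
    [0,0,2,0,1,1,0,1],
    [0,0,2,0,2,2,0,1],
    [0,0,0,0,0,0,0,0],
    [0,0,0,0,0,0,0,0],
    [0,0,0,0,0,0,0,0],
    [0,0,0,0,0,0,0,0],
    [0,0,2,0,1,2,0,2],
    [0,0,2,0,2,1,0,2],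
    [0,0,0,0,0,0,0,0],
    [2,0,2,0,1,0,2,0],
    [2,0,1,0,1,0,1,0],
    [0,0,0,0,0,0,0,0],
    [2,0,2,0,2,0,1,0],
    [0,0,0,0,0,0,0,0],
    [0,0,0,0,0,0,0,0],
    [2,0,1,0,2,0,2,0],
    [0,2,0,1,0,2,0,1],
    [0,0,0,0,0,0,0,0],
    [0,0,0,0,0,0,0,0],
    [0,2,0,2,0,2,0,2],
    [0,0,0,0,0,0,0,0],
    [0,2,0,2,0,1,0,1],
    [0,2,0,1,0,1,0,2],
    [0,0,0,0,0,0,0,0]]

/-- The monomial matrices of the axes: image and sign of each column. -/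
def monos : List (List (ℕ × ℕ)) := [
    [(9,1),(8,2),(11,2),(10,1),(13,2),(12,1),(15,1),(14,2),(1,1),(0,2),(3,2),(2,1),(5,2),(4,1),(7,1),(6,2)],
    [(10,1),(11,1),(8,2),(9,2),(14,2),(15,2),(12,1),(13,1),(2,1),(3,1),(0,2),(1,2),(6,2),(7,2),(4,1),(5,1)],
    [(11,1),(10,2),(9,1),(8,2),(15,2),(14,1),(13,2),(12,1),(3,1),(2,2),(1,1),(0,2),(7,2),(6,1),(5,2),(4,1)],
    [(12,1),(13,1),(14,1),(15,1),(8,2),(9,2),(10,2),(11,2),(4,1),(5,1),(6,1),(7,1),(0,2),(1,2),(2,2),(3,2)],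
    [(13,1),(12,2),(15,1),(14,2),(9,1),(8,2),(11,1),(10,2),(5,1),(4,2),(7,1),(6,2),(1,1),(0,2),(3,1),(2,2)],
    [(14,1),(15,2),(12,2),(13,1),(10,1),(11,2),(8,2),(9,1),(6,1),(7,2),(4,2),(5,1),(2,1),(3,2),(0,2),(1,1)],
    [(15,1),(14,1),(13,2),(12,2),(11,1),(10,1),(9,2),(8,2),(7,1),(6,1),(5,2),(4,2),(3,1),(2,1),(1,2),(0,2)],
    [(8,1),(9,1),(10,1),(11,1),(12,1),(13,1),(14,1),(15,1),(0,2),(1,2),(2,2),(3,2),(4,2),(5,2),(6,2),(7,2)]]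

/-- The vectors of the eight axes. -/
def axes : List ℕ := [136,137,141,143,139,138,142,140]

/-- Products of axes which are diagonal. -/
def diagWords : List (List (Fin 8)) := [
    [1,2,3,4],
    [0,2,3,5],
    [0,1,4,5],
    [0,1,3,6],
    [0,2,4,6],
    [1,2,5,6],
    [3,4,5,6],
    [0,1,2,7],
    [0,3,4,7],
    [1,3,5,7],
    [2,4,5,7],
    [2,3,6,7],
    [1,4,6,7],
    [0,5,6,7],
    [0,1,2,3,4,5,6,7]]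

/-- A separating diagonal product for each coordinate. -/
def sepWords : List (List (Fin 8)) := [
    [],
    [0,2,3,5],
    [1,2,3,4],
    [1,2,3,4],
    [1,2,3,4],
    [1,2,3,4],
    [0,2,3,5],
    [0,1,3,6],
    [0,1,2,7],
    [0,2,3,5],
    [1,2,3,4],
    [1,2,3,4],
    [1,2,3,4],
    [1,2,3,4],
    [0,2,3,5],
    [0,1,3,6]]

/-- A product of axes carrying the first coordinate to each one. -/
def colWords : List (List (Fin 8)) := [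
    [],
    [0,7],
    [1,7],
    [2,7],
    [3,7],
    [4,7],
    [5,7],
    [6,7],
    [7],
    [0],
    [1],
    [2],
    [3],
    [4],
    [5],
    [6]]

/-- Vectors whose combinations force a global sign. -/
def signVecs : List ℕ := [106,113,121]

/-- The first mover of axes. -/
def moveA : List ℕ := [14654,4373]

/-- The second mover of axes. -/
def moveB : List ℕ := [14654,6429]

/-- Root elements as words of pairs. -/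
def rootWords : List (List ℕ) := [
    [],
    [58821,58564],
    [27434,27179],
    [9894,10151],
    [],
    [17735,17988],
    [35213,34956],
    [18255,17998],
    [40094,36492],
    [],
    [35464,51912],
    [4881,37777],
    [51401,51915],
    [],
    [36492,34954],
    [19791,18245],
    [17492,55496,39048],
    [37301,45461],
    [],
    [8742,42658],
    [43177,44205],
    [36490,35976],
    [],
    [15930,12854],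
    [31844,29804],
    [12601,4377],
    [14970,29234],
    [],
    [17732,19533],
    [17988,19534],
    [14645,15665],
    [],
    [],
    [63688,59608],
    [51866,55946],
    [25314,62066],
    [],
    [54980,54470],
    [48300,47272],
    [27772,29796],
    [55528,51448],
    [],
    [20753,28977],
    [58821,25925],
    [35981,44460],
    [],
    [6429,15673],
    [22905,29009],
    [8754,25202],
    [31001,14681],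
    [],
    [29105,12785],
    [8739,25442],
    [20044,6937,5909],
    [],
    [14705,12665],
    [41522,8882],
    [17636,50276],
    [29426,12978],
    [],
    [25701,58852],
    [37267,4881],
    [4501,5521],
    []]

end Cfsg.Agent.Lib.SchurMult.PlusEight
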