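import Cfsg.Agent.Lib.SchurMult.PlusEight.DataTwo

/-! A certificate for the prime two. -/

set_option autoImplicit false
set_option maxRecDepth 100000

namespace Cfsg.Agent.Lib.SchurMult.PlusEight

/-- A row of the certificate. -/
def compA0 : List ℤ := [0,0,0,0,0,0,0,0,0,0,0,0,1,0,0,0,0,0,0,0,0,0,0,0,0,0,0,0,0,0,0,0,0,0,0,0,0,0,0,0,0,0,0,0,0,0,0,0,0,0,0,0,0,0,0,0,0,0,0,0,0,0,0,0,0,0,0,0,0,0,0,0,0,0,0,0,0,0]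

/-- A row of the certificate. -/
def compA1 : List ℤ := [0,0,0,1,0,0,0,0,0,0,0,0,0,0,0,0,0,0,0,0,0,0,0,0,0,0,0,0,0,0,0,0,0,0,0,0,0,0,0,0,0,0,0,0,0,0,0,0,0,0,0,0,0,0,0,0,0,0,0,0,0,0,0,0,0,0,0,0,0,0,0,0,0,0,0,0,0,0]

/-- A row of the certificate. -/
def compA2 : List ℤ := [0,1,0,0,0,0,0,0,0,0,0,0,0,0,0,0,0,0,0,0,0,0,0,0,0,0,0,0,0,0,0,0,0,0,0,0,0,0,0,0,0,0,0,0,0,0,0,0,0,0,0,0,0,0,0,0,0,0,0,0,0,0,0,0,0,0,0,0,0,0,0,0,0,0,0,0,0,0]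

/-- A row of the certificate. -/
def compA3 : List ℤ := [0,0,0,0,0,0,1,0,0,0,0,0,0,0,0,0,0,0,0,0,0,0,0,0,0,0,0,0,0,0,0,0,0,0,0,0,0,0,0,0,0,0,0,0,0,0,0,0,0,0,0,0,0,0,0,0,0,0,0,0,0,0,0,0,0,0,0,0,0,0,0,0,0,0,0,0,0,0]

/-- A row of the certificate. -/
def compA4 : List ℤ := [0,0,0,0,0,0,0,0,0,0,0,0,0,0,0,0,0,0,0,0,0,0,0,0,0,0,0,0,0,1,0,0,0,0,0,0,0,0,0,0,0,0,0,0,0,0,0,0,0,0,0,0,0,0,0,0,0,0,0,0,0,0,0,0,0,0,0,0,0,0,0,0,0,0,0,0,0,0]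

/-- A row of the certificate. -/
def compA5 : List ℤ := [0,0,0,0,0,0,0,0,0,0,0,0,0,0,0,1,0,0,0,0,0,0,0,0,0,0,0,0,0,0,0,0,0,0,0,0,0,0,0,0,0,0,0,0,0,0,0,0,0,0,0,0,0,0,0,0,0,0,0,0,0,0,0,0,0,0,0,0,0,0,0,0,0,0,0,0,0,0]

/-- A row of the certificate. -/
def compA6 : List ℤ := [0,0,0,0,0,0,0,0,0,0,0,0,0,0,0,0,1,0,0,0,0,0,0,0,0,0,0,0,0,0,0,0,0,0,0,0,0,0,0,0,0,0,0,0,0,0,0,0,0,0,0,0,0,0,0,0,0,0,0,0,0,0,0,0,0,0,0,0,0,0,0,0,0,0,0,0,0,0]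

/-- A row of the certificate. -/
def compA7 : List ℤ := [1,0,0,0,0,0,0,0,0,0,0,0,0,0,0,0,0,0,0,0,0,0,0,0,0,0,0,0,0,0,0,0,0,0,0,0,0,0,0,0,0,0,0,0,0,0,0,0,0,0,0,0,0,0,0,0,0,0,0,0,0,0,0,0,0,0,0,0,0,0,0,0,0,0,0,0,0,0]

/-- A row of the certificate. -/
def compA8 : List ℤ := [0,0,0,0,0,0,0,0,0,0,0,0,0,0,0,0,0,0,0,0,0,0,0,0,0,0,0,0,1,0,0,0,0,0,0,0,0,0,0,0,0,0,0,0,0,0,0,0,0,0,0,0,0,0,0,0,0,0,0,0,0,0,0,0,0,0,0,0,0,0,0,0,0,0,0,0,0,0]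

/-- A row of the certificate. -/
def compA9 : List ℤ := [0,0,0,0,0,0,0,0,0,0,0,0,0,0,0,0,0,0,1,0,0,0,0,0,0,0,0,0,0,0,0,0,0,0,0,0,0,0,0,0,0,0,0,0,0,0,0,0,0,0,0,0,0,0,0,0,0,0,0,0,0,0,0,0,0,0,0,0,0,0,0,0,0,0,0,0,0,0]

/-- A row of the certificate. -/
def compA10 : List ℤ := [0,0,0,0,0,0,0,0,0,0,0,0,0,0,0,0,0,0,0,0,0,0,0,0,0,0,0,0,0,0,0,1,0,0,0,0,0,0,0,0,0,0,0,0,0,0,0,0,0,0,0,0,0,0,0,0,0,0,0,0,0,0,0,0,0,0,0,0,0,0,0,0,0,0,0,0,0,0]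

/-- A row of the certificate. -/
def compA11 : List ℤ := [0,0,0,0,0,0,0,0,0,0,0,0,0,0,0,0,0,0,0,0,1,0,0,0,0,0,0,0,0,0,0,0,0,0,0,0,0,0,0,0,0,0,0,0,0,0,0,0,0,0,0,0,0,0,0,0,0,0,0,0,0,0,0,0,0,0,0,0,0,0,0,0,0,0,0,0,0,0]

/-- A row of the certificate. -/
def coordA0 : List ℤ := [0,0,0,0,0,0,0,1,0,0,0,0]

/-- A row of the certificate. -/
def coordA1 : List ℤ := [0,0,1,0,0,0,0,0,0,0,0,0]

/-- A row of the certificate. -/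
def coordA2 : List ℤ := [-2,0,0,0,0,0,0,0,2,0,0,0]

/-- A row of the certificate. -/
def coordA3 : List ℤ := [0,1,0,0,0,0,0,0,0,0,0,0]

/-- A row of the certificate. -/
def coordA4 : List ℤ := [0,0,0,0,0,0,-2,0,0,0,0,2]

/-- A row of the certificate. -/
def coordA5 : List ℤ := [0,0,0,0,0,2,0,0,0,-2,0,-2]

/-- A row of the certificate. -/
def coordA6 : List ℤ := [0,0,0,1,0,0,0,0,0,0,0,0]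

/-- A row of the certificate. -/
def coordA7 : List ℤ := [0,0,0,0,2,0,0,0,-2,0,0,0]

/-- A row of the certificate. -/
def coordA8 : List ℤ := [0,0,0,0,-2,0,0,0,0,0,0,2]

/-- A row of the certificate. -/
def coordA9 : List ℤ := [0,0,0,0,0,2,0,0,0,0,-2,0]

/-- A row of the certificate. -/
def coordA10 : List ℤ := [0,0,0,0,0,-2,0,0,0,0,0,2]

/-- A row of the certificate. -/
def coordA11 : List ℤ := [0,0,0,0,0,0,0,0,0,0,0,-2]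

/-- A row of the certificate. -/
def coordA12 : List ℤ := [1,0,0,0,0,0,0,0,0,0,0,0]

/-- A row of the certificate. -/
def coordA13 : List ℤ := [0,0,0,0,1,0,0,0,0,0,0,-1]

/-- A row of the certificate. -/
def coordA14 : List ℤ := [0,0,0,0,0,0,0,0,0,0,0,0]

/-- A row of the certificate. -/
def coordA15 : List ℤ := [0,0,0,0,0,1,0,0,0,0,0,0]

/-- A row of the certificate. -/
def coordA16 : List ℤ := [0,0,0,0,0,0,1,0,0,0,0,0]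

/-- A row of the certificate. -/
def coordA17 : List ℤ := [0,0,0,0,0,-2,0,0,0,1,1,1]

/-- A row of the certificate. -/
def coordA18 : List ℤ := [0,0,0,0,0,0,0,0,0,1,0,0]

/-- A row of the certificate. -/
def coordA19 : List ℤ := [0,0,0,0,0,0,0,0,0,0,0,0]

/-- A row of the certificate. -/
def coordA20 : List ℤ := [0,0,0,0,0,0,0,0,0,0,0,1]

/-- A row of the certificate. -/
def coordA21 : List ℤ := [0,0,0,0,0,0,0,0,0,0,0,0]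

/-- A row of the certificate. -/
def coordA22 : List ℤ := [0,0,0,0,0,0,0,0,0,0,0,0]

/-- A row of the certificate. -/
def coordA23 : List ℤ := [0,0,0,0,0,0,0,0,0,0,0,1]

/-- A row of the certificate. -/
def coordA24 : List ℤ := [0,0,0,0,0,0,0,0,0,0,0,1]

/-- A row of the certificate. -/
def coordA25 : List ℤ := [0,0,0,0,0,0,0,0,0,0,0,0]

/-- A row of the certificate. -/
def coordA26 : List ℤ := [0,0,0,0,0,0,0,0,0,0,0,0]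

/-- A row of the certificate. -/
def coordA27 : List ℤ := [0,0,0,0,0,1,0,0,0,0,0,0]

/-- A row of the certificate. -/
def coordA28 : List ℤ := [0,0,0,0,0,0,0,0,1,0,0,0]

/-- A row of the certificate. -/
def coordA29 : List ℤ := [0,0,0,0,1,0,0,0,0,0,0,0]

/-- A row of the certificate. -/
def coordA30 : List ℤ := [0,0,0,0,0,0,0,0,0,0,0,0]

/-- A row of the certificate. -/
def coordA31 : List ℤ := [0,0,0,0,0,0,0,0,0,0,1,0]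

/-- A row of the certificate. -/
def coordA32 : List ℤ := [0,0,0,0,0,1,0,0,0,0,0,0]

/-- A row of the certificate. -/
def coordA33 : List ℤ := [0,0,0,0,1,0,0,0,0,0,0,-1]

/-- A row of the certificate. -/
def coordA34 : List ℤ := [0,0,0,0,0,0,0,0,0,0,0,0]

/-- A row of the certificate. -/
def coordA35 : List ℤ := [0,0,0,0,0,0,0,0,0,0,0,0]

/-- A row of the certificate. -/
def coordA36 : List ℤ := [0,0,0,0,0,-1,0,0,0,0,1,1]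

/-- A row of the certificate. -/
def coordA37 : List ℤ := [0,0,0,0,0,0,0,0,0,0,0,0]

/-- A row of the certificate. -/
def coordA38 : List ℤ := [0,0,0,0,0,0,0,0,0,0,0,1]

/-- A row of the certificate. -/
def coordA39 : List ℤ := [0,0,0,0,0,0,0,0,0,0,0,0]

/-- A row of the certificate. -/
def coordA40 : List ℤ := [0,0,0,0,0,0,0,0,0,0,0,0]

/-- A row of the certificate. -/
def coordA41 : List ℤ := [0,0,0,0,0,0,0,0,0,0,0,0]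

/-- A row of the certificate. -/
def coordA42 : List ℤ := [0,0,0,0,0,0,0,0,0,0,0,0]

/-- A row of the certificate. -/
def coordA43 : List ℤ := [0,0,0,0,0,1,0,0,0,0,0,0]

/-- A row of the certificate. -/
def coordA44 : List ℤ := [0,0,0,0,0,0,0,0,0,0,0,1]

/-- A row of the certificate. -/
def coordA45 : List ℤ := [0,0,0,0,0,0,0,0,0,0,0,0]

/-- A row of the certificate. -/
def coordA46 : List ℤ := [0,0,0,0,0,0,0,0,0,0,0,0]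

/-- A row of the certificate. -/
def coordA47 : List ℤ := [0,0,0,0,0,0,0,0,0,0,0,0]

/-- A row of the certificate. -/
def coordA48 : List ℤ := [0,0,0,0,0,1,0,0,0,0,0,0]

/-- A row of the certificate. -/
def coordA49 : List ℤ := [0,0,0,0,0,0,0,0,0,0,0,0]

/-- A row of the certificate. -/
def coordA50 : List ℤ := [0,0,0,0,0,0,0,0,0,0,0,1]

/-- A row of the certificate. -/
def coordA51 : List ℤ := [0,0,0,0,0,0,0,0,0,0,0,0]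

/-- A row of the certificate. -/
def coordA52 : List ℤ := [0,0,0,0,0,0,0,0,0,0,0,0]

/-- A row of the certificate. -/
def coordA53 : List ℤ := [0,0,0,0,0,0,0,0,0,0,0,0]

/-- A row of the certificate. -/
def coordA54 : List ℤ := [0,0,0,0,0,0,0,0,0,0,0,0]

/-- A row of the certificate. -/
def coordA55 : List ℤ := [0,0,0,0,0,0,0,0,0,0,0,0]

/-- A row of the certificate. -/
def coordA56 : List ℤ := [0,0,0,0,0,0,0,0,0,0,0,0]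

/-- A row of the certificate. -/
def coordA57 : List ℤ := [0,0,0,0,0,0,0,0,0,0,0,0]

/-- A row of the certificate. -/
def coordA58 : List ℤ := [0,0,0,0,0,0,0,0,0,0,0,1]

/-- A row of the certificate. -/
def coordA59 : List ℤ := [0,0,0,0,0,0,0,0,0,0,0,0]

/-- A row of the certificate. -/
def coordA60 : List ℤ := [0,0,0,0,0,0,0,0,0,0,0,0]

/-- A row of the certificate. -/
def coordA61 : List ℤ := [0,0,0,0,0,0,0,0,0,0,0,0]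

/-- A row of the certificate. -/
def coordA62 : List ℤ := [0,0,0,0,0,0,0,0,0,0,0,0]

/-- A row of the certificate. -/
def coordA63 : List ℤ := [0,0,0,0,0,0,0,0,0,0,0,0]

/-- A row of the certificate. -/
def coordA64 : List ℤ := [0,0,0,0,0,0,0,0,0,0,0,0]

/-- A row of the certificate. -/
def coordA65 : List ℤ := [0,0,0,0,0,0,0,0,0,0,0,0]

/-- A row of the certificate. -/
def coordA66 : List ℤ := [0,0,0,0,0,0,0,0,0,0,0,0]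

/-- A row of the certificate. -/
def coordA67 : List ℤ := [0,0,0,0,0,0,0,0,0,0,0,0]

/-- A row of the certificate. -/
def coordA68 : List ℤ := [0,0,0,0,0,0,0,0,0,0,0,0]

/-- A row of the certificate. -/
def coordA69 : List ℤ := [0,0,0,0,0,0,0,0,0,0,0,0]

/-- A row of the certificate. -/
def coordA70 : List ℤ := [0,0,0,0,0,0,0,0,0,0,0,0]

/-- A row of the certificate. -/
def coordA71 : List ℤ := [0,0,0,0,0,0,0,0,0,0,0,0]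

/-- A row of the certificate. -/
def coordA72 : List ℤ := [0,0,0,0,0,0,0,0,0,0,0,0]

/-- A row of the certificate. -/
def coordA73 : List ℤ := [0,0,0,0,0,0,0,0,0,0,0,0]

/-- A row of the certificate. -/
def coordA74 : List ℤ := [0,0,0,0,0,0,0,0,0,0,0,0]

/-- A row of the certificate. -/
def coordA75 : List ℤ := [0,0,0,0,0,0,0,0,0,0,0,0]

/-- A row of the certificate. -/
def coordA76 : List ℤ := [0,0,0,0,0,0,0,0,0,0,0,0]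

/-- A row of the certificate. -/
def coordA77 : List ℤ := [0,0,0,0,0,0,0,0,0,0,0,0]

/-- A row of the certificate. -/
def lamA0 : List ℤ := [0,0,0,0,0,0,0,0,0,0,0,0,0,0,0,0,0,0,0,0,0,0,0,0,0,0,0,0,0,0,0,0,0,0,0,0,0,0,0,0,0,0,0,0,0,0,0,0,0,0,0,0,0,0,0,0,0,0,0,0,0,0,0,0,0,0,0,0,0,0,0,0,0,0,0,0,0,0,0]

/-- A row of the certificate. -/
def lamA1 : List ℤ := [0,0,0,0,0,0,0,0,0,0,0,0,0,0,0,0,0,0,0,0,0,0,0,0,0,0,0,0,0,0,0,0,0,0,0,0,0,0,0,0,0,0,0,0,0,0,0,0,0,0,0,0,0,0,0,0,0,0,0,0,0,0,0,0,0,0,0,0,0,0,0,0,0,0,0,0,0,0,0]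

/-- A row of the certificate. -/
def lamA2 : List ℤ := [-1,0,0,0,0,0,0,0,-1,0,0,0,0,0,1,0,-2,0,1,0,2,0,0,-1,0,2,0,-1,0,0,1,-1,-2,0,0,0,0,-3,1,0,-2,0,0,0,0,-3,-1,0,0,0,0,0,0,0,0,0,0,0,0,-2,0,0,1,1,1,0,2,-2,0,0,0,0,0,0,0,0,-1,0,0]

/-- A row of the certificate. -/
def lamA3 : List ℤ := [0,0,0,0,0,0,0,0,0,0,0,0,0,0,0,0,0,0,0,0,0,0,0,0,0,0,0,0,0,0,0,0,0,0,0,0,0,0,0,0,0,0,0,0,0,0,0,0,0,0,0,0,0,0,0,0,0,0,0,0,0,0,0,0,0,0,0,0,0,0,0,0,0,0,0,0,0,0,0]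

/-- A row of the certificate. -/
def lamA4 : List ℤ := [0,0,1,-1,0,0,0,1,0,0,0,0,0,1,0,0,0,0,0,4,0,0,0,-2,-1,-2,-2,-1,0,0,0,0,1,0,-1,-2,1,-1,1,-1,1,0,-1,0,0,0,0,0,0,0,0,0,0,0,0,0,0,0,0,1,0,0,0,0,-1,0,0,0,1,0,0,0,-2,0,0,0,0,0,-1]

/-- A row of the certificate. -/
def lamA5 : List ℤ := [0,0,3,0,0,-1,0,-1,0,-1,0,0,-1,1,0,3,0,0,0,8,0,0,0,-4,-2,-4,-4,-2,0,0,0,0,1,0,-2,-4,2,-2,2,-2,0,1,0,0,0,0,0,0,0,0,0,0,0,0,0,0,0,0,0,2,0,0,0,0,-2,0,0,0,2,0,0,0,-4,0,0,0,0,0,-2]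

/-- A row of the certificate. -/
def lamA6 : List ℤ := [0,0,0,0,0,0,0,0,0,0,0,0,0,0,0,0,0,0,0,0,0,0,0,0,0,0,0,0,0,0,0,0,0,0,0,0,0,0,0,0,0,0,0,0,0,0,0,0,0,0,0,0,0,0,0,0,0,0,0,0,0,0,0,0,0,0,0,0,0,0,0,0,0,0,0,0,0,0,0]

/-- A row of the certificate. -/
def lamA7 : List ℤ := [0,1,1,0,0,0,0,1,0,1,0,0,0,1,-1,1,2,0,-2,4,-1,0,-1,-1,-1,-3,-2,0,0,0,0,1,2,0,-1,-2,1,2,0,-1,2,0,0,0,0,2,0,-1,0,0,0,0,0,0,0,0,0,0,0,2,0,0,-1,-1,-2,0,-2,1,1,0,0,0,-2,0,0,0,1,0,-1]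

/-- A row of the certificate. -/
def lamA8 : List ℤ := [0,-1,0,0,0,0,0,0,0,0,0,0,0,0,0,0,0,0,0,0,0,0,0,0,0,0,0,0,0,0,0,0,0,0,0,0,0,0,0,0,0,0,0,0,0,0,0,0,0,0,0,0,0,0,0,0,0,0,0,0,0,0,1,0,0,0,0,0,0,0,0,0,0,0,0,0,0,0,0]

/-- A row of the certificate. -/
def lamA9 : List ℤ := [0,0,14,0,1,1,0,-1,0,1,0,0,-1,8,0,12,20,-2,-12,42,-10,2,0,-12,-13,-38,-22,-5,0,0,2,10,19,0,-11,-25,13,3,5,-13,20,1,2,-1,-2,20,0,0,-2,0,0,0,0,-2,2,-2,0,0,-2,20,0,-2,0,0,-11,0,-20,10,11,0,2,-2,-24,0,0,0,10,0,-11]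

/-- A row of the certificate. -/
def lamA10 : List ℤ := [0,0,-1,0,0,0,0,1,0,1,0,0,0,0,0,-1,0,0,0,0,0,0,0,0,0,0,0,0,0,0,0,0,-1,0,0,0,0,0,0,0,0,0,0,0,0,0,0,0,0,0,0,0,0,0,0,0,0,0,0,0,0,0,0,0,0,0,0,0,0,0,0,0,0,0,0,0,0,0,0]

/-- A row of the certificate. -/
def lamA11 : List ℤ := [0,0,0,0,0,0,0,-1,0,-1,0,0,0,0,0,0,0,0,0,0,0,0,0,0,0,0,0,0,0,0,0,0,0,0,0,0,0,0,0,0,0,0,0,0,0,0,0,0,0,0,0,0,0,0,0,0,0,0,0,0,0,0,0,0,0,0,0,0,0,0,0,0,0,0,0,0,0,0,0]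

/-- A row of the certificate. -/
def lamA12 : List ℤ := [0,0,0,0,0,0,0,0,0,0,0,0,0,0,0,0,0,0,0,0,0,0,0,0,0,0,0,0,0,0,0,0,0,0,0,0,0,0,0,0,0,0,0,0,0,0,0,0,0,0,0,0,0,0,0,0,0,0,0,0,0,0,0,0,0,0,0,0,0,0,0,0,0,0,0,0,0,0,0]

/-- A row of the certificate. -/
def lamA13 : List ℤ := [0,0,0,0,0,0,0,0,0,0,0,0,0,0,0,0,0,0,0,0,0,0,0,0,0,0,0,0,0,0,0,0,0,0,0,0,0,0,0,0,0,0,0,0,0,0,0,0,0,0,0,0,0,0,0,0,0,0,0,0,0,0,0,0,0,0,0,0,0,0,0,0,0,0,0,0,0,0,0]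

/-- A row of the certificate. -/
def lamA14 : List ℤ := [0,0,-1,0,0,0,0,0,0,0,0,0,0,-1,0,-1,1,0,0,-4,-1,0,0,2,1,1,2,1,0,0,0,0,0,0,1,2,-1,1,-1,1,0,0,0,0,0,2,0,0,0,0,0,0,0,0,0,0,0,0,0,0,0,0,0,0,1,0,-1,1,-1,0,0,0,2,0,0,0,0,0,1]

/-- A row of the certificate. -/
def lamA15 : List ℤ := [0,0,0,0,0,0,0,0,0,0,0,0,0,0,0,0,0,0,0,0,0,0,0,0,0,0,0,0,0,0,0,0,0,0,0,0,0,0,0,0,0,0,0,0,0,0,0,0,0,0,0,0,0,0,0,0,0,0,0,0,0,0,0,0,0,0,0,0,0,0,0,0,0,0,0,0,0,0,0]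

/-- A row of the certificate. -/
def lamA16 : List ℤ := [0,0,0,0,0,0,0,0,0,0,0,0,0,0,0,0,0,0,0,0,0,0,0,0,0,0,0,0,0,0,0,0,0,0,0,0,0,0,0,0,0,0,0,0,0,0,0,0,0,0,0,0,0,0,0,0,0,0,0,0,0,0,0,0,0,0,0,0,0,0,0,0,0,0,0,0,0,0,0]

/-- A row of the certificate. -/
def lamA17 : List ℤ := [0,0,-8,0,-1,0,0,1,0,0,0,0,1,-4,0,-7,-10,1,6,-23,5,-1,0,7,7,20,12,3,0,0,-1,-5,-10,0,6,14,-7,-1,-3,7,-10,-1,-1,1,1,-10,0,0,1,0,0,0,0,1,-1,1,0,0,1,-11,0,1,0,0,6,0,10,-5,-6,0,-1,1,13,0,0,0,-5,0,6]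

/-- A row of the certificate. -/
def lamA18 : List ℤ := [0,0,0,0,0,0,0,0,0,0,0,0,0,0,0,0,0,0,0,0,0,0,0,0,0,0,0,0,0,0,0,0,0,0,0,0,0,0,0,0,0,0,0,0,0,0,0,0,0,0,0,0,0,0,0,0,0,0,0,0,0,0,0,0,0,0,0,0,0,0,0,0,0,0,0,0,0,0,0]

/-- A row of the certificate. -/
def lamA19 : List ℤ := [0,0,-1,0,0,0,0,0,-1,0,0,0,0,-1,0,-1,-2,0,1,-4,1,0,0,1,1,3,2,1,0,0,0,-1,-2,0,1,2,-1,1,-1,1,-2,0,0,0,0,-2,0,0,0,0,0,0,0,0,0,0,0,0,0,-2,0,0,0,0,1,0,2,-1,-1,0,0,0,2,0,0,0,-1,-1,1]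

/-- A row of the certificate. -/
def lamA20 : List ℤ := [0,0,0,0,0,0,0,0,0,0,0,0,0,0,0,0,0,0,0,0,0,0,0,0,0,0,0,0,0,0,0,0,0,0,0,0,0,0,0,0,0,0,0,0,0,0,0,0,0,0,0,0,0,0,0,0,0,0,0,0,0,0,0,0,0,0,0,0,0,0,0,0,0,0,0,0,0,0,0]

/-- A row of the certificate. -/
def lamA21 : List ℤ := [0,0,0,0,0,0,0,0,0,0,0,0,0,0,0,0,0,0,0,0,0,0,0,0,0,0,0,0,0,0,0,0,0,0,0,0,0,0,0,0,0,0,1,0,0,0,0,0,0,0,0,0,0,0,0,0,0,0,0,0,0,0,0,0,0,0,0,0,0,0,0,0,0,0,0,0,0,0,0]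

/-- A row of the certificate. -/
def lamA22 : List ℤ := [0,0,-1,0,0,0,0,0,0,0,0,0,0,-1,0,-1,-2,0,1,-4,1,1,0,1,1,3,2,1,0,0,1,-1,-2,0,1,2,-1,1,-1,1,-2,0,0,0,0,-2,0,0,-1,-1,0,0,0,-1,0,0,0,0,-1,-2,0,0,0,0,2,0,2,-1,-1,-1,0,0,2,0,0,0,-1,0,1]

/-- A row of the certificate. -/
def lamA23 : List ℤ := [0,0,3,0,0,0,0,0,0,0,-1,1,0,3,0,3,6,0,-3,12,-3,0,0,-3,-3,-10,-6,-3,0,0,-2,3,6,0,-3,-6,3,-1,3,-3,6,0,0,0,0,6,0,0,1,1,0,0,0,0,-1,0,0,0,0,6,0,0,0,0,-5,0,-6,3,3,2,0,0,-6,1,0,0,3,0,-3]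

/-- A row of the certificate. -/
def lamA24 : List ℤ := [0,0,1,0,0,0,0,0,0,0,0,0,0,1,0,1,2,0,-1,4,-1,0,0,-1,-1,-3,-2,-1,0,0,-1,1,2,0,-1,-2,1,0,1,-1,2,0,0,0,0,2,0,0,0,0,0,0,0,0,0,0,0,0,0,2,0,0,0,0,-2,0,-2,1,1,1,0,0,-2,0,0,0,1,0,-1]

/-- A row of the certificate. -/
def lamA25 : List ℤ := [0,0,0,0,0,0,0,0,0,0,0,0,0,0,0,0,0,0,0,0,0,0,0,0,0,0,0,0,0,0,0,0,0,0,0,0,0,0,0,0,0,0,0,-1,0,0,0,0,0,0,0,0,0,0,0,0,0,0,0,0,0,0,0,0,0,0,0,0,0,0,0,0,0,0,0,0,0,0,0]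

/-- A row of the certificate. -/
def lamA26 : List ℤ := [0,0,-1,0,0,0,0,0,0,0,0,0,0,-1,0,-1,0,0,0,-4,0,0,0,2,1,2,2,1,0,0,0,0,0,0,1,2,-1,1,-1,1,0,0,0,0,0,0,0,0,0,0,0,0,0,0,0,0,0,0,0,-1,0,0,0,0,1,0,0,0,-1,0,0,0,2,0,0,0,0,0,1]

/-- A row of the certificate. -/
def lamA27 : List ℤ := [0,0,-1,0,0,0,0,0,0,0,0,0,0,-2,0,-1,-4,0,2,-4,2,-1,0,2,2,5,2,-1,0,0,-1,-2,-4,0,1,3,-1,-4,1,2,-4,0,0,0,0,-4,0,0,1,1,0,0,0,1,0,1,0,0,1,-4,0,0,0,0,1,0,4,-2,-2,1,0,0,3,0,0,0,-2,0,1]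

/-- A row of the certificate. -/
def lamA28 : List ℤ := [0,0,0,0,0,0,0,0,0,0,0,0,0,0,0,0,0,0,0,0,0,0,0,0,0,0,0,0,0,0,0,0,0,0,0,0,0,0,0,0,0,0,0,0,0,0,0,0,0,0,0,0,0,0,0,0,0,0,0,0,0,0,0,0,0,0,0,0,0,0,0,0,0,0,0,0,0,0,0]

/-- A row of the certificate. -/
def lamA29 : List ℤ := [0,0,0,0,0,0,0,0,0,0,0,0,0,0,0,0,0,0,0,0,0,0,0,0,0,0,0,0,0,0,0,0,0,0,0,0,0,0,0,0,0,0,0,0,0,0,0,0,0,0,0,0,0,0,0,0,0,0,0,0,0,0,0,0,0,0,0,0,0,0,0,0,0,0,0,0,0,0,0]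

/-- A row of the certificate. -/
def lamA30 : List ℤ := [0,0,0,0,0,0,0,0,0,0,0,0,0,0,0,1,0,0,0,0,0,0,0,0,0,0,0,0,0,0,0,0,0,0,0,0,0,0,0,0,0,0,0,0,0,0,0,0,0,0,0,0,0,0,0,0,0,0,0,0,0,0,0,0,0,0,0,0,0,0,0,1,0,0,0,0,0,0,0]

/-- A row of the certificate. -/
def lamA31 : List ℤ := [0,0,0,0,0,0,0,0,0,0,0,0,0,0,0,0,0,0,0,0,0,0,0,0,0,0,0,0,0,0,0,0,0,0,0,0,0,0,0,0,0,0,0,0,0,0,0,0,0,0,0,0,0,0,0,0,0,0,0,0,0,0,0,0,0,0,0,0,0,0,0,0,0,0,0,0,0,0,0]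

/-- A row of the certificate. -/
def lamA32 : List ℤ := [0,0,-1,0,0,0,0,0,0,0,0,0,0,-1,0,-1,-2,0,1,-4,1,-1,0,2,2,4,2,-1,0,0,-1,-1,-2,0,1,3,-1,-3,1,2,-2,0,0,0,0,-2,0,0,1,1,0,0,0,1,0,1,0,0,1,-2,0,0,0,0,0,0,2,-1,-1,1,0,0,3,0,0,0,-1,0,1]

/-- A row of the certificate. -/
def lamA33 : List ℤ := [0,0,1,0,0,0,0,0,0,0,0,0,0,1,0,1,2,0,-1,4,-1,-1,0,-1,-1,-3,-2,-1,0,0,-1,1,2,0,-1,-2,1,-1,1,-1,2,0,0,0,0,2,0,0,1,1,0,0,0,1,0,0,0,0,1,2,0,0,0,0,-2,0,-2,1,1,1,0,0,-2,0,0,-1,1,0,-1]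

/-- A row of the certificate. -/
def lamA34 : List ℤ := [0,0,0,0,0,0,0,0,0,0,0,0,0,0,0,0,0,0,0,0,0,0,0,0,0,0,0,0,0,0,0,0,0,0,0,0,0,0,0,0,0,0,0,0,0,0,1,0,0,0,0,0,0,0,0,0,0,0,0,0,0,0,0,0,0,0,0,0,0,0,0,0,0,0,0,0,0,0,0]

/-- A row of the certificate. -/
def lamA35 : List ℤ := [0,0,1,0,0,0,0,0,0,0,0,0,0,1,0,1,-2,0,0,4,1,0,0,-2,-1,-1,-2,-1,0,0,0,0,0,0,-1,-2,1,-1,1,-1,0,0,0,0,0,-2,0,0,0,0,0,0,0,0,0,0,0,0,0,0,0,0,0,0,-1,0,2,-1,1,0,0,0,-2,0,0,0,0,0,-1]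

/-- A row of the certificate. -/
def lamA36 : List ℤ := [0,0,-5,0,0,0,0,1,0,0,0,0,0,-3,0,-4,-8,0,4,-15,4,-1,0,5,5,13,8,1,0,0,-1,-4,-8,0,4,9,-5,-3,-1,5,-8,0,0,0,1,-8,0,0,1,0,0,0,0,1,0,1,0,-1,1,-8,0,0,0,0,4,0,8,-4,-4,0,-1,1,9,0,0,0,-4,0,4]

/-- A row of the certificate. -/
def lamA37 : List ℤ := [0,0,0,0,0,0,0,0,0,0,0,0,0,0,0,0,0,0,0,0,0,0,0,0,0,0,0,0,0,0,0,0,0,0,0,0,0,0,0,0,0,0,0,0,0,0,0,0,0,1,0,0,0,0,0,0,0,0,0,0,0,0,0,0,0,0,0,0,0,0,0,0,0,0,0,0,0,0,0]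

/-- A row of the certificate. -/
def lamA38 : List ℤ := [0,0,1,0,0,0,0,0,0,0,0,0,0,1,0,1,2,0,-1,4,-1,0,0,-1,-1,-3,-2,-1,0,0,0,1,2,0,-1,-2,1,0,1,-1,2,0,0,0,0,2,0,0,0,0,0,0,0,0,0,0,0,1,0,2,0,0,0,0,-2,0,-2,1,1,1,0,0,-2,0,0,0,1,0,-1]

/-- A row of the certificate. -/
def lamA39 : List ℤ := [0,0,1,0,0,0,0,0,0,0,0,0,0,1,0,1,2,0,-1,4,-1,0,0,-1,-1,-3,-2,-1,0,0,0,1,2,0,-1,-2,1,-1,1,-1,2,0,0,0,0,2,0,0,0,0,0,0,0,0,0,0,0,0,0,2,0,0,0,1,-1,0,-2,1,1,0,0,0,-2,0,0,0,1,0,-1]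

/-- A row of the certificate. -/
def lamA40 : List ℤ := [0,0,0,0,0,0,0,0,0,0,0,0,0,0,0,0,0,0,0,0,0,0,0,0,0,0,0,0,0,0,0,0,0,0,0,0,0,0,0,0,0,0,0,0,0,0,0,0,0,0,0,0,0,0,0,0,0,0,0,0,0,0,0,0,0,-1,0,0,0,0,0,0,0,0,0,0,0,0,0]

/-- A row of the certificate. -/
def lamA41 : List ℤ := [0,0,-1,0,0,0,0,0,0,0,0,0,0,-1,0,-1,1,0,0,-4,-1,0,0,2,1,1,2,1,0,0,0,0,0,0,1,2,-1,1,-1,1,0,0,0,0,0,1,0,0,0,0,0,0,0,0,0,0,0,0,0,0,0,0,0,0,1,0,-1,1,-1,0,0,0,2,0,0,0,0,0,1]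

/-- A row of the certificate. -/
def lamA42 : List ℤ := [0,0,0,0,0,0,0,0,0,0,0,0,0,0,0,0,0,0,0,0,0,0,0,0,0,0,0,0,0,0,0,0,0,0,0,0,0,0,0,0,0,0,0,0,0,0,0,0,0,0,0,0,0,0,0,0,0,0,0,0,0,0,-1,0,0,0,0,0,0,0,0,0,0,0,0,0,0,0,0]

/-- A row of the certificate. -/
def lamA43 : List ℤ := [0,0,-1,0,0,0,0,0,0,0,0,0,0,-1,0,-1,-2,0,1,-4,1,0,0,1,1,3,2,1,0,-1,0,-1,-2,0,1,2,-1,0,-1,1,-2,0,0,0,0,-2,0,0,0,0,0,0,0,0,0,0,0,0,0,-2,1,0,0,0,1,0,2,-1,-1,0,0,0,2,0,0,0,-1,0,1]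

/-- A row of the certificate. -/
def lamA44 : List ℤ := [0,0,7,0,0,0,0,-1,1,-1,-1,2,0,7,0,7,14,0,-7,28,-7,0,0,-8,-7,-23,-14,-7,0,0,-5,7,14,0,-7,-14,7,-3,7,-7,14,0,0,0,0,14,0,0,2,2,0,1,0,0,-2,0,0,0,0,14,0,0,0,0,-11,0,-14,7,7,4,0,0,-14,2,0,0,7,1,-7]

/-- A row of the certificate. -/
def lamA45 : List ℤ := [0,0,-1,0,0,0,0,0,0,0,0,0,0,-1,0,-1,-2,0,1,-4,1,0,0,1,1,3,2,1,0,0,1,-1,-2,0,1,2,-1,1,-1,1,-2,0,0,0,0,-2,0,0,-1,-1,0,0,0,-1,0,0,0,0,0,-2,0,0,0,0,2,0,2,-1,-1,-1,0,0,2,0,0,0,-1,0,1]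

/-- A row of the certificate. -/
def lamA46 : List ℤ := [0,0,-1,0,0,0,0,0,0,0,0,0,0,-1,0,-1,-2,0,1,-4,1,0,0,1,1,3,2,1,0,0,0,-1,-2,0,1,2,-1,0,-1,1,-2,0,0,0,0,-2,0,0,0,0,0,0,0,0,0,0,0,0,0,-2,0,0,0,0,2,0,2,-1,-1,0,0,0,2,0,0,0,-1,0,1]

/-- A row of the certificate. -/
def lamA47 : List ℤ := [0,0,0,0,0,0,0,0,0,0,0,0,0,0,0,0,0,0,0,0,0,0,0,0,0,0,0,0,0,0,0,0,0,0,0,0,0,0,0,0,0,0,0,0,0,0,0,1,0,0,0,0,0,0,0,0,0,0,0,0,0,0,0,0,0,0,0,0,0,0,0,0,0,0,0,0,0,0,0]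

/-- A row of the certificate. -/
def lamA48 : List ℤ := [0,0,0,0,0,0,0,0,0,0,0,0,0,0,0,0,0,0,0,0,0,-1,0,0,0,0,0,-1,0,0,-1,0,0,0,0,1,0,-2,1,0,0,0,0,0,0,0,0,0,1,1,0,0,0,1,0,1,0,0,1,0,0,0,0,0,-1,0,0,0,0,1,0,0,1,0,0,0,0,0,0]

/-- A row of the certificate. -/
def lamA49 : List ℤ := [0,0,0,0,0,0,0,0,0,0,0,0,0,0,0,0,0,0,0,0,0,0,0,0,0,0,0,0,0,0,0,0,0,0,0,0,0,0,0,0,0,0,0,0,0,0,0,0,0,0,0,0,1,0,0,0,0,0,0,0,0,0,0,0,0,0,0,0,0,0,0,0,0,0,0,0,0,0,0]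

/-- A row of the certificate. -/
def lamA50 : List ℤ := [0,0,1,0,0,0,0,0,0,0,0,0,0,1,0,1,2,0,-1,4,-1,0,0,-1,-1,-3,-2,-1,0,0,-1,1,2,0,-1,-2,1,0,1,-1,2,0,0,0,0,2,0,0,0,0,0,0,0,0,1,0,0,0,0,2,0,0,0,0,-2,0,-2,1,1,1,0,0,-2,0,0,0,1,0,-1]

/-- A row of the certificate. -/
def lamA51 : List ℤ := [0,0,0,0,0,0,0,0,0,0,0,0,0,0,0,0,0,0,0,0,0,0,0,0,0,0,0,0,0,0,0,0,0,0,0,-1,0,0,0,0,0,0,0,0,0,0,0,0,0,0,0,0,0,0,0,0,0,0,0,0,0,0,0,0,0,0,0,0,0,0,0,0,0,0,0,0,0,0,0]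

/-- A row of the certificate. -/
def lamA52 : List ℤ := [0,0,0,0,0,0,0,0,0,0,0,0,0,0,0,0,0,0,0,0,0,0,0,0,0,0,0,0,0,0,0,0,0,0,0,0,0,0,0,0,0,0,0,0,-1,0,0,0,0,0,0,0,0,0,0,0,0,0,0,0,0,0,0,0,0,0,0,0,0,0,0,0,0,0,0,0,0,0,0]

/-- A row of the certificate. -/
def lamA53 : List ℤ := [0,0,-1,0,0,0,0,0,0,0,0,0,0,-1,0,-1,0,0,0,-4,0,0,0,2,1,2,2,1,0,0,0,0,0,0,1,2,-1,1,-1,1,0,0,0,0,0,0,0,0,0,0,0,0,0,0,0,0,0,0,0,0,0,0,0,0,1,0,0,0,-1,0,0,0,2,0,0,0,0,0,1]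

/-- A row of the certificate. -/
def lamA54 : List ℤ := [0,0,1,0,0,0,0,0,0,0,0,0,0,1,0,1,2,0,-1,3,-1,0,0,-1,-1,-3,-2,0,0,0,0,1,2,0,-1,-2,1,1,0,-1,2,0,0,0,0,2,0,0,0,0,0,0,0,0,0,0,0,0,0,2,0,0,0,0,-1,0,-2,1,1,0,0,0,-2,0,0,0,1,0,-1]

/-- A row of the certificate. -/
def lamA55 : List ℤ := [0,0,-1,0,0,0,0,0,0,0,0,0,0,-1,0,-1,-2,0,1,-4,1,0,0,1,1,3,2,1,0,0,0,-1,-2,0,1,2,-1,1,-1,1,-2,0,0,0,0,-2,0,0,0,0,0,0,0,0,0,0,0,0,0,-2,0,0,0,0,1,0,2,-1,-1,0,0,0,2,0,0,0,-1,0,1]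

/-- A row of the certificate. -/
def lamA56 : List ℤ := [0,0,1,0,0,0,0,0,0,0,0,0,0,1,0,1,2,0,-1,4,-1,0,0,-1,-1,-3,-2,-1,0,0,0,1,2,0,-1,-2,1,0,1,-1,2,0,0,0,0,2,0,0,0,0,0,0,0,0,0,0,0,0,0,2,0,0,0,0,-1,0,-2,1,1,0,0,0,-2,0,0,0,1,0,-1]

/-- A row of the certificate. -/
def lamA57 : List ℤ := [0,0,-1,0,0,0,0,0,0,0,0,0,0,-1,0,-1,-2,0,1,-4,1,1,0,1,1,3,2,1,-1,0,1,-1,-2,0,1,2,-1,1,-1,1,-2,0,0,0,0,-2,0,0,-1,-1,0,0,0,-1,0,-1,1,0,-1,-2,0,0,0,0,2,0,2,-1,-1,-1,0,0,2,0,0,0,-1,0,1]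

/-- A row of the certificate. -/
def lamA58 : List ℤ := [0,0,6,0,0,0,1,-1,0,-1,-1,2,0,6,0,6,12,0,-6,24,-6,0,0,-7,-6,-20,-12,-6,0,0,-5,6,12,0,-6,-12,6,-2,6,-6,12,0,0,0,0,12,0,0,2,2,0,1,0,0,-2,0,0,0,0,12,0,0,0,0,-10,0,-12,6,6,4,0,0,-12,2,-1,0,6,0,-6]

/-- A row of the certificate. -/
def lamA59 : List ℤ := [0,0,-2,0,0,0,0,0,0,0,0,0,0,-2,0,-2,-4,0,2,-8,2,0,0,2,2,6,4,2,0,0,1,-2,-4,0,2,4,-2,1,-2,2,-4,0,0,0,0,-4,0,0,-1,-1,0,0,0,0,0,0,0,0,0,-4,0,0,0,0,3,0,4,-2,-2,-1,0,0,4,0,0,0,-2,0,2]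

/-- A row of the certificate. -/
def lamA60 : List ℤ := [0,0,1,0,0,0,0,0,0,0,0,0,0,1,0,1,0,0,0,4,0,0,0,-2,-1,-2,-2,-1,0,0,0,0,1,0,-1,-2,1,-1,1,-1,1,0,0,0,0,0,0,0,0,0,0,0,0,0,0,0,0,0,0,1,0,0,0,0,-1,0,0,0,1,0,0,0,-2,0,0,0,0,0,-1]

/-- A row of the certificate. -/
def lamA61 : List ℤ := [0,0,-1,0,0,0,0,0,0,0,0,0,1,-1,0,-1,0,0,0,-4,0,0,0,2,1,2,2,1,0,0,0,0,0,0,1,2,-1,1,-1,1,0,-1,0,0,0,0,0,0,0,0,0,0,0,0,0,0,0,0,0,-1,0,0,0,0,1,0,0,0,-1,0,0,0,2,0,0,0,0,0,1]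

/-- A row of the certificate. -/
def lamA62 : List ℤ := [0,0,0,0,0,0,0,0,0,0,0,0,0,1,0,0,0,0,0,0,0,0,0,0,0,0,0,0,0,0,0,0,0,0,0,0,0,0,0,0,0,0,0,0,0,0,0,0,0,0,0,0,0,0,0,0,0,0,0,0,0,0,0,0,0,0,0,0,0,0,0,0,0,0,0,0,0,0,0]

/-- A row of the certificate. -/
def lamA63 : List ℤ := [0,0,1,0,0,0,0,0,0,0,0,0,0,1,0,1,2,0,-1,4,-1,0,0,-1,-2,-3,-2,0,0,0,0,1,2,0,-1,-2,1,1,0,-1,2,0,0,0,0,2,0,0,0,0,0,0,0,0,0,0,0,0,0,2,0,0,0,0,-1,0,-2,1,1,0,0,0,-2,0,0,0,1,0,-1]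

/-- A row of the certificate. -/
def lamA64 : List ℤ := [0,0,-1,0,0,0,0,0,0,0,0,0,0,-1,0,-1,-2,0,1,-4,1,0,0,1,1,3,2,1,0,0,0,-1,-2,-1,1,2,-1,1,-1,1,-2,0,0,0,0,-2,0,0,0,0,1,0,0,0,0,0,0,0,0,-2,0,0,0,0,1,0,2,-1,-1,0,0,0,2,0,0,0,-1,0,1]

/-- A row of the certificate. -/
def lamA65 : List ℤ := [0,0,0,0,0,0,0,0,0,0,0,0,0,0,0,0,0,0,0,0,0,0,0,0,0,0,0,0,0,-1,0,0,0,0,0,0,0,0,0,0,0,0,0,0,0,0,0,0,0,0,0,0,0,0,0,0,0,0,0,0,0,0,0,0,0,0,0,0,0,0,0,0,0,0,0,0,0,0,0]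

/-- A row of the certificate. -/
def lamA66 : List ℤ := [0,0,0,0,0,0,0,0,0,0,0,0,0,0,0,0,0,0,0,0,0,0,0,0,0,0,0,0,0,0,0,0,0,0,0,0,-1,0,0,0,0,0,0,0,0,0,0,0,0,0,0,0,0,0,0,0,0,0,0,0,0,0,0,0,0,0,0,0,0,0,0,0,0,0,0,0,0,0,0]

/-- A row of the certificate. -/
def lamA67 : List ℤ := [0,0,-1,0,0,0,0,0,0,0,0,0,0,-1,0,-1,-2,0,1,-4,1,1,0,1,1,3,2,1,0,0,1,-1,-2,0,1,2,-1,1,-1,1,-2,0,0,0,0,-2,0,0,-1,-1,0,0,0,-1,0,-1,0,0,-1,-2,0,0,0,0,2,0,2,-1,-1,-1,0,0,2,0,0,0,-1,0,1]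

/-- A row of the certificate. -/
def lamA68 : List ℤ := [0,0,0,0,0,0,0,0,1,0,0,0,0,0,0,0,0,0,0,0,0,0,0,0,0,0,0,0,0,0,0,0,0,0,0,0,0,0,0,0,0,0,0,0,0,0,0,0,0,0,0,0,0,0,0,0,0,0,0,0,0,0,0,0,0,0,0,0,0,0,0,0,0,0,0,0,0,0,0]

/-- A row of the certificate. -/
def lamA69 : List ℤ := [0,0,0,0,0,0,0,0,0,0,0,0,0,0,0,0,0,0,0,0,0,0,0,0,0,0,0,0,0,0,-1,0,0,0,0,0,0,0,0,0,0,0,0,0,0,0,0,0,0,0,0,0,0,0,0,0,0,0,0,0,0,0,0,0,0,0,0,0,0,0,0,0,0,0,0,0,0,0,0]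

/-- A row of the certificate. -/
def lamA70 : List ℤ := [0,0,-1,0,0,0,0,0,0,0,0,0,0,-1,0,0,0,0,0,-4,0,0,0,2,1,2,2,1,0,0,0,0,-1,0,1,2,-1,1,-1,1,-1,0,0,0,0,0,0,0,0,0,0,0,0,0,0,0,0,0,0,-1,0,0,0,0,1,0,0,0,-1,0,0,0,2,0,0,0,0,0,1]

/-- A row of the certificate. -/
def lamA71 : List ℤ := [0,0,0,0,0,0,0,0,0,1,0,0,0,0,0,0,0,0,0,0,0,0,0,0,0,0,0,0,0,0,0,0,0,0,0,0,0,0,0,0,0,0,0,0,0,0,0,0,0,0,0,0,0,0,0,0,0,0,0,0,0,0,0,0,0,0,0,0,0,0,0,0,0,0,0,0,0,0,0]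

/-- A row of the certificate. -/
def lamA72 : List ℤ := [0,0,0,0,0,0,0,0,0,0,0,0,0,0,0,0,0,0,0,0,0,0,0,-1,0,0,0,0,0,0,0,0,0,0,0,0,0,0,0,0,0,0,0,0,0,0,0,0,0,0,0,0,0,0,0,0,0,0,0,0,0,0,0,0,0,0,0,0,0,0,0,0,0,0,0,0,0,0,0]

/-- A row of the certificate. -/
def lamA73 : List ℤ := [0,0,-1,0,0,0,0,0,0,0,0,0,0,-1,0,-1,-2,0,1,-4,1,0,0,1,1,3,2,0,0,0,0,-1,-2,0,1,2,-1,-1,0,1,-2,0,0,0,0,-2,0,0,0,0,0,0,0,0,0,0,0,0,0,-2,0,0,0,0,1,0,2,-1,-1,0,0,0,2,0,0,0,-1,0,1]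

/-- A row of the certificate. -/
def lamA74 : List ℤ := [0,0,0,0,0,0,0,0,0,0,0,0,0,0,0,0,0,0,1,0,0,0,0,0,0,0,0,0,0,0,0,0,0,0,0,0,0,0,0,0,0,0,0,0,0,0,0,0,0,0,0,0,0,0,0,0,0,0,0,0,0,0,0,0,0,0,0,0,0,0,0,0,0,0,0,0,0,0,0]

/-- A row of the certificate. -/
def lamA75 : List ℤ := [0,0,0,0,0,0,0,0,0,0,0,0,0,0,0,0,0,0,0,0,0,0,1,0,0,0,0,0,0,0,0,0,0,0,0,0,0,0,0,0,0,0,0,0,0,0,0,0,0,0,0,0,0,0,0,0,0,0,0,0,0,0,0,0,0,0,0,0,0,0,0,0,0,0,0,0,0,0,0]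

/-- A row of the certificate. -/
def lamA76 : List ℤ := [0,0,0,0,0,0,0,0,0,0,0,0,0,0,0,0,0,0,0,0,0,0,0,0,0,1,0,0,0,0,0,0,0,0,0,0,0,0,0,0,0,0,0,0,0,0,0,0,0,0,0,0,0,0,0,0,0,0,0,0,0,0,0,0,0,0,0,0,0,0,0,0,0,0,0,0,0,0,0]

/-- A row of the certificate. -/
def lamA77 : List ℤ := [0,0,0,0,0,0,0,0,0,0,0,0,0,0,0,0,0,0,0,0,0,0,0,0,0,0,0,0,0,0,0,0,1,0,0,0,0,0,0,0,0,0,0,0,0,0,0,0,0,0,0,0,0,0,0,0,0,0,0,0,0,0,0,0,0,0,0,0,0,0,0,0,0,0,0,0,0,0,0]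

/-- Certificate data. -/
def dataA : Engine.Data where
  p := 2
  n := 12
  rhs := rhsTwo
  ord := [2,2,2,2,2,2,2,2,2,2,2,2]
  eqs := [
    .cons [1,1] [0],
    .cons [2,2] [0],
    .cons [3,3] [0],
    .cons [3,3] [1],
    .cons [3,3] [2],
    .cons [4,4] [0],
    .cons [4,4] [1],
    .cons [4,4] [2],
    .cons [4,2] [1],
    .cons [4,3] [1],
    .cons [5,5] [1],
    .cons [5,5] [2],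
    .cons [5,5] [4],
    .cons [5,4] [0],
    .cons [6,6] [1],
    .cons [6,5] [3],
    .cons [7,7] [2],
    .cons [7,7] [3],
    .cons [7,4] [2],
    .cons [7,6] [3],
    .cons [8,8] [1],
    .cons [8,8] [5],
    .cons [8,5] [1],
    .cons [8,5] [4],
    .cons [8,6] [3],
    .cons [9,5] [1],
    .cons [9,9] [6],
    .cons [9,9] [8],
    .cons [10,10] [0],
    .cons [10,2] [0],
    .cons [10,2] [1],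
    .cons [10,10] [3],
    .cons [10,3] [0],
    .cons [10,10] [7],
    .cons [11,11] [0],
    .fus 0 [6] [3] [6,9] [3],
    .fus 0 [10] [6] [10] [6,9],
    .fus 0 [7,8] [6] [7,8] [6,9],
    .fus 0 [6,9] [7] [6] [7,11],
    .fus 0 [6,10] [0,5] [6,9,10] [0,10],
    .fus 1 [5] [4] [3,11] [3,10,11],
    .fus 2 [9] [4] [4,5,9,10] [4],
    .fus 3 [11] [4] [3,11] [4],
    .fus 3 [3,5] [11] [3,5] [3,11],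
    .fus 4 [5] [4] [5,9] [4],
    .fus 4 [2,4] [1] [1,4,8] [1],
    .fus 4 [2,7] [1] [2] [1],
    .fus 4 [7,8] [2,7] [7,8] [2],
    .fus 4 [4,9] [2,7] [5,9,10] [2],
    .fus 4 [4,11] [2,8] [4,11] [2,7,8],
    .fus 4 [1,2,7] [9,10] [1,2] [9,10],
    .fus 5 [1,4,7] [1,7] [2,4,7,8,11] [2,7,8],
    .fus 6 [1,11] [5,10] [1,11] [5,9,10],
    .fus 7 [8,10] [2,10] [2,5,8,9,10,11] [2,5,9,10,11],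
    .fus 8 [2,11] [4,5] [2,11] [4,9],
    .fus 9 [5] [0] [11] [0],
    .fus 9 [8] [0] [0,8,10,11] [0],
    .fus 9 [2,7] [5] [2,7] [11],
    .fus 9 [2,7,10] [0] [2,5,7,10] [0],
    .fus 9 [2,7,10] [4,9] [2,5,7,10] [4,9],
    .fus 10 [0,8] [3] [8] [9,11],
    .fus 11 [4,5,9] [2,4,7] [3,4] [0,2,4,7],
    .fus 12 [11] [2] [8,11] [2],
    .fus 13 [7] [6] [7] [9],
    .fus 13 [8] [6] [8] [9],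
    .fus 13 [10] [0] [8,10] [0],
    .fus 14 [11] [2] [1,2,7,11] [2],
    .fus 15 [7] [2] [9] [5,9,11],
    .fus 16 [0,6,8] [5,6] [0,8,9] [0,5,8,9],
    .fus 17 [2,5,8,9] [2] [0,6,8,9,11] [2],
    .fus 18 [0,2,3,6] [3,4,5] [0,2,3,7] [3,4,5],
    .fus 19 [0,5,6,8] [3,10,11] [0,5,8,10,11] [3,10,11],
    .fus 20 [0,6,11] [0,6] [0,3,10,11] [0,9,10,11],
    .fus 21 [1,2] [5] [2] [5,9,10,11],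
    .fus 22 [10,11] [8,11] [4,10] [1,8],
    .fus 23 [5,7,9] [2,9] [0,5,7,8,9,10,11] [0,2,8,9,10,11],
    .fus 24 [2,7,9] [2,5,9] [2,7,9] [5],
    .fus 25 [9] [7] [4,11] [1,4,11],
    .fus 26 [0] [6,9] [] []]
  comp := [
    compA0,
    compA1,
    compA2,
    compA3,
    compA4,
    compA5,
    compA6,
    compA7,
    compA8,
    compA9,
    compA10,
    compA11]
  coord := [
    coordA0,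
    coordA1,
    coordA2,
    coordA3,
    coordA4,
    coordA5,
    coordA6,
    coordA7,
    coordA8,
    coordA9,
    coordA10,
    coordA11,
    coordA12,
    coordA13,
    coordA14,
    coordA15,
    coordA16,
    coordA17,
    coordA18,
    coordA19,
    coordA20,
    coordA21,
    coordA22,
    coordA23,
    coordA24,
    coordA25,
    coordA26,
    coordA27,
    coordA28,
    coordA29,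
    coordA30,
    coordA31,
    coordA32,
    coordA33,
    coordA34,
    coordA35,
    coordA36,
    coordA37,
    coordA38,
    coordA39,
    coordA40,
    coordA41,
    coordA42,
    coordA43,
    coordA44,
    coordA45,
    coordA46,
    coordA47,
    coordA48,
    coordA49,
    coordA50,
    coordA51,
    coordA52,
    coordA53,
    coordA54,
    coordA55,
    coordA56,
    coordA57,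
    coordA58,
    coordA59,
    coordA60,
    coordA61,
    coordA62,
    coordA63,
    coordA64,
    coordA65,
    coordA66,
    coordA67,
    coordA68,
    coordA69,
    coordA70,
    coordA71,
    coordA72,
    coordA73,
    coordA74,
    coordA75,
    coordA76,
    coordA77]
  scale := 2
  back := [
    [0,0,0,0,0,0,0,1,0,0,0,0],
    [0,0,1,0,0,0,0,0,0,0,0,0],
    [-2,0,0,0,0,0,0,0,2,0,0,0],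
    [0,1,0,0,0,0,0,0,0,0,0,0],
    [0,0,0,0,0,0,-2,0,0,0,0,2],
    [0,0,0,0,0,2,0,0,0,-2,0,-2],
    [0,0,0,1,0,0,0,0,0,0,0,0],
    [0,0,0,0,2,0,0,0,-2,0,0,0],
    [0,0,0,0,-2,0,0,0,0,0,0,2],
    [0,0,0,0,0,2,0,0,0,0,-2,0],
    [0,0,0,0,0,-2,0,0,0,0,0,2],
    [0,0,0,0,0,0,0,0,0,0,0,-2]]
  lam := [
    lamA0,
    lamA1,
    lamA2,
    lamA3,
    lamA4,
    lamA5,
    lamA6,
    lamA7,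
    lamA8,
    lamA9,
    lamA10,
    lamA11,
    lamA12,
    lamA13,
    lamA14,
    lamA15,
    lamA16,
    lamA17,
    lamA18,
    lamA19,
    lamA20,
    lamA21,
    lamA22,
    lamA23,
    lamA24,
    lamA25,
    lamA26,
    lamA27,
    lamA28,
    lamA29,
    lamA30,
    lamA31,
    lamA32,
    lamA33,
    lamA34,
    lamA35,
    lamA36,
    lamA37,
    lamA38,
    lamA39,
    lamA40,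
    lamA41,
    lamA42,
    lamA43,
    lamA44,
    lamA45,
    lamA46,
    lamA47,
    lamA48,
    lamA49,
    lamA50,
    lamA51,
    lamA52,
    lamA53,
    lamA54,
    lamA55,
    lamA56,
    lamA57,
    lamA58,
    lamA59,
    lamA60,
    lamA61,
    lamA62,
    lamA63,
    lamA64,
    lamA65,
    lamA66,
    lamA67,
    lamA68,
    lamA69,
    lamA70,
    lamA71,
    lamA72,
    lamA73,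
    lamA74,
    lamA75,
    lamA76,
    lamA77]
  zeta := [0,0,0,0,0,0,0,0,0,0,0,0,0,1,0,0,0,0,0,0,1,0,0,0,0,0,0,0,0,-1,0,0,0,0,0,0,0,0,0,0,0,0,0,0,0,0,0,0,0,0,0,0,0,0,0,0,0,0,0,0,0,0,0,0,0,0,0,0,0,0,0,0,0,0,0,0,0,0]
  mu := [0,0,0,0,0,0,0,2,-2,0,0,0,0,1,0,0,0,0,0,0,0,0,1,-2,-1,0,0,-1,0,0,0,0,-1,0,0,0,0,0,-1,0,0,0,0,0,-4,1,0,0,-1,0,-1,0,0,0,0,0,0,1,-4,1,0,0,0,0,0,0,0,1,0,0,0,0,0,0,0,0,0,0]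
  bound := 2
  lamz := [0,0,2,0,0,0,0,0,0,0,0,0,0,2,0,2,4,0,-2,8,-2,-2,0,-2,-2,-6,-4,-2,0,0,-2,2,4,0,-3,-4,2,-2,2,-2,4,0,0,0,0,4,0,0,2,2,0,0,0,2,0,2,0,0,2,4,0,0,0,0,-4,0,-4,2,2,2,0,0,-4,0,0,0,2,0,-2]

end Cfsg.Agent.Lib.SchurMult.PlusEight
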