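import Cfsg.Agent.Lib.SchurMult.PlusEight.DataTwo

/-! A certificate for the prime two. -/

set_option autoImplicit false
set_option maxRecDepth 100000

namespace Cfsg.Agent.Lib.SchurMult.PlusEight

/-- A row of the certificate. -/
def compB0 : List ℤ := [0,0,0,0,0,0,1,0,0,0,0,0,0,0,0,0,0,0,0,0,0,0,0,0,0,0,0,0,0,0,0,0,0,0,0,0,0,0,0,0,0,0,0,0,0,0,0,0,0,0,0,0,0,0,0,0,0,0,0,0,0,0,0,0,0,0,0,0,0,0,0,0,0,0,0,0,0,0]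

/-- A row of the certificate. -/
def compB1 : List ℤ := [0,0,0,0,0,0,0,0,0,0,0,0,0,0,0,1,0,0,0,0,0,0,0,0,0,0,0,0,0,0,0,0,0,0,0,0,0,0,0,0,0,0,0,0,0,0,0,0,0,0,0,0,0,0,0,0,0,0,0,0,0,0,0,0,0,0,0,0,0,0,0,0,0,0,0,0,0,0]

/-- A row of the certificate. -/
def compB2 : List ℤ := [0,0,0,0,0,0,0,0,0,0,0,0,0,0,0,0,0,0,0,0,0,0,0,0,0,0,0,0,1,0,0,0,0,0,0,0,0,0,0,0,0,0,0,0,0,0,0,0,0,0,0,0,0,0,0,0,0,0,0,0,0,0,0,0,0,0,0,0,0,0,0,0,0,0,0,0,0,0]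

/-- A row of the certificate. -/
def compB3 : List ℤ := [0,0,0,0,0,0,0,0,0,0,0,0,0,0,0,0,0,0,1,0,0,0,0,0,0,0,0,0,0,0,0,0,0,0,0,0,0,0,0,0,0,0,0,0,0,0,0,0,0,0,0,0,0,0,0,0,0,0,0,0,0,0,0,0,0,0,0,0,0,0,0,0,0,0,0,0,0,0]

/-- A row of the certificate. -/
def compB4 : List ℤ := [0,0,0,0,0,0,0,0,0,0,0,0,0,0,0,0,0,0,0,0,0,0,0,0,0,0,0,0,0,0,0,1,0,0,0,0,0,0,0,0,0,0,0,0,0,0,0,0,0,0,0,0,0,0,0,0,0,0,0,0,0,0,0,0,0,0,0,0,0,0,0,0,0,0,0,0,0,0]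

/-- A row of the certificate. -/
def compB5 : List ℤ := [0,0,0,1,0,0,0,0,0,0,0,0,0,0,0,0,0,0,0,0,0,0,0,0,0,0,0,0,0,0,0,0,0,0,0,0,0,0,0,0,0,0,0,0,0,0,0,0,0,0,0,0,0,0,0,0,0,0,0,0,0,0,0,0,0,0,0,0,0,0,0,0,0,0,0,0,0,0]

/-- A row of the certificate. -/
def compB6 : List ℤ := [0,0,0,0,0,0,0,0,0,0,0,0,1,0,0,0,0,0,0,0,0,0,0,0,0,0,0,0,0,0,0,0,0,0,0,0,0,0,0,0,0,0,0,0,0,0,0,0,0,0,0,0,0,0,0,0,0,0,0,0,0,0,0,0,0,0,0,0,0,0,0,0,0,0,0,0,0,0]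

/-- A row of the certificate. -/
def compB7 : List ℤ := [0,0,0,0,0,0,0,0,0,0,0,0,0,0,0,0,0,0,0,0,0,0,0,0,0,0,0,0,0,1,0,0,0,0,0,0,0,0,0,0,0,0,0,0,0,0,0,0,0,0,0,0,0,0,0,0,0,0,0,0,0,0,0,0,0,0,0,0,0,0,0,0,0,0,0,0,0,0]

/-- A row of the certificate. -/
def compB8 : List ℤ := [1,0,0,0,0,0,0,0,0,0,0,0,0,0,0,0,0,0,0,0,0,0,0,0,0,0,0,0,0,0,0,0,0,0,0,0,0,0,0,0,0,0,0,0,0,0,0,0,0,0,0,0,0,0,0,0,0,0,0,0,0,0,0,0,0,0,0,0,0,0,0,0,0,0,0,0,0,0]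

/-- A row of the certificate. -/
def compB9 : List ℤ := [0,1,0,0,0,0,0,0,0,0,0,0,0,0,0,0,0,0,0,0,0,0,0,0,0,0,0,0,0,0,0,0,0,0,0,0,0,0,0,0,0,0,0,0,0,0,0,0,0,0,0,0,0,0,0,0,0,0,0,0,0,0,0,0,0,0,0,0,0,0,0,0,0,0,0,0,0,0]

/-- A row of the certificate. -/
def compB10 : List ℤ := [0,0,0,0,0,0,0,0,0,0,0,0,0,0,0,0,1,0,0,0,0,0,0,0,0,0,0,0,0,0,0,0,0,0,0,0,0,0,0,0,0,0,0,0,0,0,0,0,0,0,0,0,0,0,0,0,0,0,0,0,0,0,0,0,0,0,0,0,0,0,0,0,0,0,0,0,0,0]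

/-- A row of the certificate. -/
def compB11 : List ℤ := [0,0,0,0,0,0,0,0,0,0,0,0,0,0,0,0,0,0,0,0,0,0,0,0,1,0,0,0,0,0,0,0,0,0,0,0,0,0,0,0,0,0,0,0,0,0,0,0,0,0,0,0,0,0,0,0,0,0,0,0,0,0,0,0,0,0,0,0,0,0,0,0,0,0,0,0,0,0]

/-- A row of the certificate. -/
def coordB0 : List ℤ := [0,0,0,0,0,0,0,0,1,0,0,0]

/-- A row of the certificate. -/
def coordB1 : List ℤ := [0,0,0,0,0,0,0,0,0,1,0,0]

/-- A row of the certificate. -/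
def coordB2 : List ℤ := [0,0,2,0,0,0,-2,0,0,0,0,0]

/-- A row of the certificate. -/
def coordB3 : List ℤ := [0,0,0,0,0,1,0,0,0,0,0,0]

/-- A row of the certificate. -/
def coordB4 : List ℤ := [0,0,0,0,0,0,0,0,0,0,-2,2]

/-- A row of the certificate. -/
def coordB5 : List ℤ := [0,2,0,-2,0,0,0,0,0,0,0,-2]

/-- A row of the certificate. -/
def coordB6 : List ℤ := [1,0,0,0,0,0,0,0,0,0,0,0]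

/-- A row of the certificate. -/
def coordB7 : List ℤ := [0,0,-2,0,0,0,0,2,0,0,0,0]

/-- A row of the certificate. -/
def coordB8 : List ℤ := [0,0,0,0,0,0,0,-2,0,0,0,2]

/-- A row of the certificate. -/
def coordB9 : List ℤ := [0,2,0,0,-2,0,0,0,0,0,0,0]

/-- A row of the certificate. -/
def coordB10 : List ℤ := [0,-2,0,0,0,0,0,0,0,0,0,2]

/-- A row of the certificate. -/
def coordB11 : List ℤ := [0,0,0,0,0,0,0,0,0,0,0,-2]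

/-- A row of the certificate. -/
def coordB12 : List ℤ := [0,0,0,0,0,0,1,0,0,0,0,0]

/-- A row of the certificate. -/
def coordB13 : List ℤ := [0,0,0,0,0,0,0,1,0,0,0,-1]

/-- A row of the certificate. -/
def coordB14 : List ℤ := [0,0,0,0,0,0,0,0,0,0,0,0]

/-- A row of the certificate. -/
def coordB15 : List ℤ := [0,1,0,0,0,0,0,0,0,0,0,0]

/-- A row of the certificate. -/
def coordB16 : List ℤ := [0,0,0,0,0,0,0,0,0,0,1,0]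

/-- A row of the certificate. -/
def coordB17 : List ℤ := [0,-2,0,1,1,0,0,0,0,0,0,1]

/-- A row of the certificate. -/
def coordB18 : List ℤ := [0,0,0,1,0,0,0,0,0,0,0,0]

/-- A row of the certificate. -/
def coordB19 : List ℤ := [0,0,0,0,0,0,0,0,0,0,0,0]

/-- A row of the certificate. -/
def coordB20 : List ℤ := [0,0,0,0,0,0,0,0,0,0,0,1]

/-- A row of the certificate. -/
def coordB21 : List ℤ := [0,0,0,0,0,0,0,0,0,0,0,0]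

/-- A row of the certificate. -/
def coordB22 : List ℤ := [0,0,0,0,0,0,0,0,0,0,0,0]

/-- A row of the certificate. -/
def coordB23 : List ℤ := [0,0,0,0,0,0,0,0,0,0,0,1]

/-- A row of the certificate. -/
def coordB24 : List ℤ := [0,0,0,0,0,0,0,0,0,0,0,1]

/-- A row of the certificate. -/
def coordB25 : List ℤ := [0,0,0,0,0,0,0,0,0,0,0,0]

/-- A row of the certificate. -/
def coordB26 : List ℤ := [0,0,0,0,0,0,0,0,0,0,0,0]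

/-- A row of the certificate. -/
def coordB27 : List ℤ := [0,1,0,0,0,0,0,0,0,0,0,0]

/-- A row of the certificate. -/
def coordB28 : List ℤ := [0,0,1,0,0,0,0,0,0,0,0,0]

/-- A row of the certificate. -/
def coordB29 : List ℤ := [0,0,0,0,0,0,0,1,0,0,0,0]

/-- A row of the certificate. -/
def coordB30 : List ℤ := [0,0,0,0,0,0,0,0,0,0,0,0]

/-- A row of the certificate. -/
def coordB31 : List ℤ := [0,0,0,0,1,0,0,0,0,0,0,0]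

/-- A row of the certificate. -/
def coordB32 : List ℤ := [0,1,0,0,0,0,0,0,0,0,0,0]

/-- A row of the certificate. -/
def coordB33 : List ℤ := [0,0,0,0,0,0,0,1,0,0,0,-1]

/-- A row of the certificate. -/
def coordB34 : List ℤ := [0,0,0,0,0,0,0,0,0,0,0,0]

/-- A row of the certificate. -/
def coordB35 : List ℤ := [0,0,0,0,0,0,0,0,0,0,0,0]

/-- A row of the certificate. -/
def coordB36 : List ℤ := [0,-1,0,0,1,0,0,0,0,0,0,1]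

/-- A row of the certificate. -/
def coordB37 : List ℤ := [0,0,0,0,0,0,0,0,0,0,0,0]

/-- A row of the certificate. -/
def coordB38 : List ℤ := [0,0,0,0,0,0,0,0,0,0,0,1]

/-- A row of the certificate. -/
def coordB39 : List ℤ := [0,0,0,0,0,0,0,0,0,0,0,0]

/-- A row of the certificate. -/
def coordB40 : List ℤ := [0,0,0,0,0,0,0,0,0,0,0,0]

/-- A row of the certificate. -/
def coordB41 : List ℤ := [0,0,0,0,0,0,0,0,0,0,0,0]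

/-- A row of the certificate. -/
def coordB42 : List ℤ := [0,0,0,0,0,0,0,0,0,0,0,0]

/-- A row of the certificate. -/
def coordB43 : List ℤ := [0,1,0,0,0,0,0,0,0,0,0,0]

/-- A row of the certificate. -/
def coordB44 : List ℤ := [0,0,0,0,0,0,0,0,0,0,0,1]

/-- A row of the certificate. -/
def coordB45 : List ℤ := [0,0,0,0,0,0,0,0,0,0,0,0]

/-- A row of the certificate. -/
def coordB46 : List ℤ := [0,0,0,0,0,0,0,0,0,0,0,0]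

/-- A row of the certificate. -/
def coordB47 : List ℤ := [0,0,0,0,0,0,0,0,0,0,0,0]

/-- A row of the certificate. -/
def coordB48 : List ℤ := [0,1,0,0,0,0,0,0,0,0,0,0]

/-- A row of the certificate. -/
def coordB49 : List ℤ := [0,0,0,0,0,0,0,0,0,0,0,0]

/-- A row of the certificate. -/
def coordB50 : List ℤ := [0,0,0,0,0,0,0,0,0,0,0,1]

/-- A row of the certificate. -/
def coordB51 : List ℤ := [0,0,0,0,0,0,0,0,0,0,0,0]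

/-- A row of the certificate. -/
def coordB52 : List ℤ := [0,0,0,0,0,0,0,0,0,0,0,0]

/-- A row of the certificate. -/
def coordB53 : List ℤ := [0,0,0,0,0,0,0,0,0,0,0,0]

/-- A row of the certificate. -/
def coordB54 : List ℤ := [0,0,0,0,0,0,0,0,0,0,0,0]

/-- A row of the certificate. -/
def coordB55 : List ℤ := [0,0,0,0,0,0,0,0,0,0,0,0]

/-- A row of the certificate. -/
def coordB56 : List ℤ := [0,0,0,0,0,0,0,0,0,0,0,0]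

/-- A row of the certificate. -/
def coordB57 : List ℤ := [0,0,0,0,0,0,0,0,0,0,0,0]

/-- A row of the certificate. -/
def coordB58 : List ℤ := [0,0,0,0,0,0,0,0,0,0,0,1]

/-- A row of the certificate. -/
def coordB59 : List ℤ := [0,0,0,0,0,0,0,0,0,0,0,0]

/-- A row of the certificate. -/
def coordB60 : List ℤ := [0,0,0,0,0,0,0,0,0,0,0,0]

/-- A row of the certificate. -/
def coordB61 : List ℤ := [0,0,0,0,0,0,0,0,0,0,0,0]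

/-- A row of the certificate. -/
def coordB62 : List ℤ := [0,0,0,0,0,0,0,0,0,0,0,0]

/-- A row of the certificate. -/
def coordB63 : List ℤ := [0,0,0,0,0,0,0,0,0,0,0,0]

/-- A row of the certificate. -/
def coordB64 : List ℤ := [0,0,0,0,0,0,0,0,0,0,0,0]

/-- A row of the certificate. -/
def coordB65 : List ℤ := [0,0,0,0,0,0,0,0,0,0,0,0]

/-- A row of the certificate. -/
def coordB66 : List ℤ := [0,0,0,0,0,0,0,0,0,0,0,0]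

/-- A row of the certificate. -/
def coordB67 : List ℤ := [0,0,0,0,0,0,0,0,0,0,0,0]

/-- A row of the certificate. -/
def coordB68 : List ℤ := [0,0,0,0,0,0,0,0,0,0,0,0]

/-- A row of the certificate. -/
def coordB69 : List ℤ := [0,0,0,0,0,0,0,0,0,0,0,0]

/-- A row of the certificate. -/
def coordB70 : List ℤ := [0,0,0,0,0,0,0,0,0,0,0,0]

/-- A row of the certificate. -/
def coordB71 : List ℤ := [0,0,0,0,0,0,0,0,0,0,0,0]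

/-- A row of the certificate. -/
def coordB72 : List ℤ := [0,0,0,0,0,0,0,0,0,0,0,0]

/-- A row of the certificate. -/
def coordB73 : List ℤ := [0,0,0,0,0,0,0,0,0,0,0,0]

/-- A row of the certificate. -/
def coordB74 : List ℤ := [0,0,0,0,0,0,0,0,0,0,0,0]

/-- A row of the certificate. -/
def coordB75 : List ℤ := [0,0,0,0,0,0,0,0,0,0,0,0]

/-- A row of the certificate. -/
def coordB76 : List ℤ := [0,0,0,0,0,0,0,0,0,0,0,0]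

/-- A row of the certificate. -/
def coordB77 : List ℤ := [0,0,0,0,0,0,0,0,0,0,0,0]

/-- A row of the certificate. -/
def lamB0 : List ℤ := [0,0,0,0,0,0,0,0,0,0,0,0,0,0,0,0,0,0,0,0,0,0,0,0,0,0,0,0,0,0,0,0,0,0,0,0,0,0,0,0,0,0,0,0,0,0,0,0,0,0,0,0,0,0,0,0,0,0,0,0,0,0,0,0,0,0,0,0,0,0,0,0,0,0,0,0,0,0,0]

/-- A row of the certificate. -/
def lamB1 : List ℤ := [0,0,0,0,0,0,0,0,0,0,0,0,0,0,0,0,0,0,0,0,0,0,0,0,0,0,0,0,0,0,0,0,0,0,0,0,0,0,0,0,0,0,0,0,0,0,0,0,0,0,0,0,0,0,0,0,0,0,0,0,0,0,0,0,0,0,0,0,0,0,0,0,0,0,0,0,0,0,0]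

/-- A row of the certificate. -/
def lamB2 : List ℤ := [-1,0,0,0,0,0,0,0,-1,0,0,0,0,0,1,0,-2,0,1,0,2,0,0,-1,0,2,0,-1,0,0,1,-1,-2,0,0,0,0,-3,1,0,-2,0,0,0,0,-3,-1,0,0,0,0,0,0,0,0,0,0,0,0,-2,0,0,1,1,1,0,2,-2,0,0,0,0,0,0,0,0,-1,0,0]

/-- A row of the certificate. -/
def lamB3 : List ℤ := [0,0,0,0,0,0,0,0,0,0,0,0,0,0,0,0,0,0,0,0,0,0,0,0,0,0,0,0,0,0,0,0,0,0,0,0,0,0,0,0,0,0,0,0,0,0,0,0,0,0,0,0,0,0,0,0,0,0,0,0,0,0,0,0,0,0,0,0,0,0,0,0,0,0,0,0,0,0,0]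

/-- A row of the certificate. -/
def lamB4 : List ℤ := [0,0,0,-1,0,0,0,1,0,0,1,-1,0,0,0,-1,-2,0,1,0,1,-3,0,-1,0,2,0,0,0,0,0,-1,-1,0,0,0,0,-3,0,0,-1,0,-1,0,0,-2,0,0,2,2,0,0,0,3,1,0,0,0,3,-1,0,0,0,0,0,0,2,-1,0,0,0,0,0,-1,0,0,-1,0,-3]

/-- A row of the certificate. -/
def lamB5 : List ℤ := [0,0,1,0,0,-1,0,-1,0,-1,2,-2,-1,-1,0,1,-4,0,2,0,2,0,0,-2,0,4,0,0,0,0,0,-2,-3,0,0,0,0,0,0,0,-4,1,0,0,0,-4,0,0,-2,-2,0,0,0,0,2,0,0,0,0,-2,0,0,0,0,0,0,4,-2,0,0,0,0,0,-2,0,0,-2,0,0]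

/-- A row of the certificate. -/
def lamB6 : List ℤ := [0,0,0,0,0,0,0,0,0,0,0,0,0,0,0,0,0,0,0,0,0,0,0,0,0,0,0,0,0,0,0,0,0,0,0,0,0,0,0,0,0,0,0,0,0,0,0,0,0,0,0,0,0,0,0,0,0,0,0,0,0,0,0,0,0,0,0,0,0,0,0,0,0,0,0,0,0,0,0]

/-- A row of the certificate. -/
def lamB7 : List ℤ := [0,1,0,0,0,0,0,1,0,1,3,-3,0,0,-1,0,0,0,-1,0,0,-5,-1,0,0,3,0,1,0,0,-2,0,0,0,0,0,0,0,-1,0,0,0,0,0,0,0,0,-1,2,2,0,0,0,5,3,0,0,0,5,0,0,0,-1,-1,-3,0,0,0,0,2,0,0,0,-3,0,0,0,0,-5]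

/-- A row of the certificate. -/
def lamB8 : List ℤ := [0,-1,0,0,0,0,0,0,0,0,-2,2,0,0,0,0,0,0,0,0,0,2,0,0,0,-2,0,0,0,0,2,0,0,0,0,0,0,0,0,0,0,0,0,0,0,0,0,0,0,0,0,0,0,-2,-2,0,0,0,-2,0,0,0,1,0,2,0,0,0,0,-2,0,0,0,2,0,0,0,0,2]

/-- A row of the certificate. -/
def lamB9 : List ℤ := [0,0,3,0,1,1,0,-1,0,1,11,-11,-1,-3,0,1,-2,-2,-1,-2,1,-9,0,-1,-2,6,0,6,0,0,2,-1,-3,0,-2,-3,2,3,-6,-2,-2,1,2,-1,-2,-2,0,0,-2,0,0,0,0,9,13,2,0,0,9,-2,0,-2,0,0,0,0,2,-1,0,0,2,-2,-2,-11,0,0,-1,0,-7]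

/-- A row of the certificate. -/
def lamB10 : List ℤ := [0,0,-1,0,0,0,0,1,0,1,0,0,0,0,0,-1,0,0,0,0,0,-2,0,0,0,0,0,0,0,0,0,0,-1,0,0,0,0,-2,0,0,0,0,0,0,0,0,0,0,2,2,0,0,0,2,0,0,0,0,2,0,0,0,0,0,0,0,0,0,0,0,0,0,0,0,0,0,0,0,-2]

/-- A row of the certificate. -/
def lamB11 : List ℤ := [0,0,0,0,0,0,0,-1,0,-1,0,0,0,0,0,0,0,0,0,0,0,2,0,0,0,0,0,0,0,0,0,0,0,0,0,0,0,2,0,0,0,0,0,0,0,0,0,0,-2,-2,0,0,0,-2,0,0,0,0,-2,0,0,0,0,0,0,0,0,0,0,0,0,0,0,0,0,0,0,0,2]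

/-- A row of the certificate. -/
def lamB12 : List ℤ := [0,0,0,0,0,0,0,0,0,0,0,0,0,0,0,0,0,0,0,0,0,0,0,0,0,0,0,0,0,0,0,0,0,0,0,0,0,0,0,0,0,0,0,0,0,0,0,0,0,0,0,0,0,0,0,0,0,0,0,0,0,0,0,0,0,0,0,0,0,0,0,0,0,0,0,0,0,0,0]

/-- A row of the certificate. -/
def lamB13 : List ℤ := [0,0,0,0,0,0,0,0,0,0,1,-1,0,0,0,0,0,0,0,0,0,-1,0,0,0,1,0,0,0,0,-1,0,0,0,0,0,0,0,0,0,0,0,0,0,0,0,0,0,0,0,0,0,0,1,1,0,0,0,1,0,0,0,0,0,-1,0,0,0,0,1,0,0,0,-1,0,0,0,0,-1]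

/-- A row of the certificate. -/
def lamB14 : List ℤ := [0,0,0,0,0,0,0,0,0,0,-1,1,0,0,0,0,3,0,-1,0,-2,1,0,1,0,-3,0,0,0,0,0,1,2,0,0,0,0,1,0,0,2,0,0,0,0,4,0,0,0,0,0,0,0,-1,-1,0,0,0,-1,2,0,0,0,0,0,0,-3,2,0,0,0,0,0,1,0,0,1,0,1]

/-- A row of the certificate. -/
def lamB15 : List ℤ := [0,0,0,0,0,0,0,0,0,0,0,0,0,0,0,0,0,0,0,0,0,0,0,0,0,0,0,0,0,0,0,0,0,0,0,0,0,0,0,0,0,0,0,0,0,0,0,0,0,0,0,0,0,0,0,0,0,0,0,0,0,0,0,0,0,0,0,0,0,0,0,0,0,0,0,0,0,0,0]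

/-- A row of the certificate. -/
def lamB16 : List ℤ := [0,0,0,0,0,0,0,0,0,0,0,0,0,0,0,0,0,0,0,0,0,0,0,0,0,0,0,0,0,0,0,0,0,0,0,0,0,0,0,0,0,0,0,0,0,0,0,0,0,0,0,0,0,0,0,0,0,0,0,0,0,0,0,0,0,0,0,0,0,0,0,0,0,0,0,0,0,0,0]

/-- A row of the certificate. -/
def lamB17 : List ℤ := [0,0,-2,0,-1,0,0,1,0,0,-6,6,1,2,0,-1,2,1,0,1,-1,4,0,1,1,-4,0,-3,0,0,-1,1,2,0,1,2,-1,-2,3,1,2,-1,-1,1,1,2,0,0,2,1,0,0,0,-4,-7,-1,0,0,-4,1,0,1,0,0,0,0,-2,1,0,0,-1,1,1,6,0,0,1,0,3]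

/-- A row of the certificate. -/
def lamB18 : List ℤ := [0,0,0,0,0,0,0,0,0,0,0,0,0,0,0,0,0,0,0,0,0,0,0,0,0,0,0,0,0,0,0,0,0,0,0,0,0,0,0,0,0,0,0,0,0,0,0,0,0,0,0,0,0,0,0,0,0,0,0,0,0,0,0,0,0,0,0,0,0,0,0,0,0,0,0,0,0,0,0]

/-- A row of the certificate. -/
def lamB19 : List ℤ := [0,0,0,0,0,0,0,0,-1,0,-1,1,0,0,0,0,0,0,0,0,0,1,0,0,0,-1,0,0,0,0,0,0,0,0,0,0,0,1,0,0,0,0,0,0,0,0,0,0,0,0,0,0,0,-1,-1,0,0,0,-1,0,0,0,0,0,0,0,0,0,0,0,0,0,0,1,0,0,0,-1,1]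

/-- A row of the certificate. -/
def lamB20 : List ℤ := [0,0,0,0,0,0,0,0,0,0,0,0,0,0,0,0,0,0,0,0,0,-1,0,0,0,0,0,0,0,0,0,0,0,0,0,0,0,-1,0,0,0,0,0,0,0,0,0,0,1,1,0,0,0,1,0,0,0,0,1,0,0,0,0,0,0,0,0,0,0,0,0,0,0,0,0,0,0,0,-1]

/-- A row of the certificate. -/
def lamB21 : List ℤ := [0,0,0,0,0,0,0,0,0,0,0,0,0,0,0,0,0,0,0,0,0,0,0,0,0,0,0,0,0,0,0,0,0,0,0,0,0,0,0,0,0,0,1,0,0,0,0,0,0,0,0,0,0,0,0,0,0,0,0,0,0,0,0,0,0,0,0,0,0,0,0,0,0,0,0,0,0,0,0]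

/-- A row of the certificate. -/
def lamB22 : List ℤ := [0,0,0,0,0,0,0,0,0,0,0,0,0,0,0,0,0,0,0,0,0,0,0,0,0,0,0,0,0,0,0,0,0,0,0,0,0,0,0,0,0,0,0,0,0,0,0,0,0,0,0,0,0,0,0,0,0,0,0,0,0,0,0,0,0,0,0,0,0,0,0,0,0,0,0,0,0,0,-1]

/-- A row of the certificate. -/
def lamB23 : List ℤ := [0,0,0,0,0,0,0,0,0,0,0,0,0,0,0,0,0,0,0,0,0,0,0,0,0,0,0,0,0,0,0,0,0,0,0,0,0,0,0,0,0,0,0,0,0,0,0,0,0,0,0,0,0,0,0,0,0,0,0,0,0,0,0,0,0,0,0,0,0,0,0,0,0,0,0,0,0,0,0]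

/-- A row of the certificate. -/
def lamB24 : List ℤ := [0,0,0,0,0,0,0,0,0,0,0,0,0,0,0,0,0,0,0,0,0,0,0,0,0,0,0,0,0,0,0,0,0,0,0,0,0,0,0,0,0,0,0,0,0,0,0,0,0,0,0,0,0,0,0,0,0,0,0,0,0,0,0,0,0,0,0,0,0,0,0,0,0,0,0,0,0,0,0]

/-- A row of the certificate. -/
def lamB25 : List ℤ := [0,0,0,0,0,0,0,0,0,0,0,0,0,0,0,0,0,0,0,0,0,0,0,0,0,0,0,0,0,0,0,0,0,0,0,0,0,0,0,0,0,0,0,-1,0,0,0,0,0,0,0,0,0,0,0,0,0,0,0,0,0,0,0,0,0,0,0,0,0,0,0,0,0,0,0,0,0,0,0]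

/-- A row of the certificate. -/
def lamB26 : List ℤ := [0,0,0,0,0,0,0,0,0,0,-1,1,0,0,0,0,2,0,-1,0,-1,1,0,1,0,-2,0,0,0,0,0,1,2,0,0,0,0,1,0,0,2,0,0,0,0,2,0,0,0,0,0,0,0,-1,-1,0,0,0,-1,1,0,0,0,0,0,0,-2,1,0,0,0,0,0,1,0,0,1,0,1]

/-- A row of the certificate. -/
def lamB27 : List ℤ := [0,0,0,0,0,0,0,0,0,0,-2,2,0,-1,0,0,-2,0,1,0,1,2,0,1,1,0,0,-2,0,0,0,-1,-2,0,1,1,0,-3,2,1,-2,0,0,0,0,-2,0,0,0,0,0,0,0,-2,-2,-1,0,0,-2,-2,0,0,0,0,1,0,2,-1,-1,0,0,0,1,2,0,0,-1,0,1]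

/-- A row of the certificate. -/
def lamB28 : List ℤ := [0,0,0,0,0,0,0,0,0,0,0,0,0,0,0,0,0,0,0,0,0,0,0,0,0,0,0,0,0,0,0,0,0,0,0,0,0,0,0,0,0,0,0,0,0,0,0,0,0,0,0,0,0,0,0,0,0,0,0,0,0,0,0,0,0,0,0,0,0,0,0,0,0,0,0,0,0,0,0]

/-- A row of the certificate. -/
def lamB29 : List ℤ := [0,0,0,0,0,0,0,0,0,0,0,0,0,0,0,0,0,0,0,0,0,0,0,0,0,0,0,0,0,0,0,0,0,0,0,0,0,0,0,0,0,0,0,0,0,0,0,0,0,0,0,0,0,0,0,0,0,0,0,0,0,0,0,0,0,0,0,0,0,0,0,0,0,0,0,0,0,0,0]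

/-- A row of the certificate. -/
def lamB30 : List ℤ := [0,0,0,0,0,0,0,0,0,0,0,0,0,0,0,1,0,0,0,0,0,0,0,0,0,0,0,0,0,0,0,0,0,0,0,0,0,0,0,0,0,0,0,0,0,0,0,0,0,0,0,0,0,0,0,0,0,0,0,0,0,0,0,0,0,0,0,0,0,0,0,1,0,0,0,0,0,0,0]

/-- A row of the certificate. -/
def lamB31 : List ℤ := [0,0,0,0,0,0,0,0,0,0,0,0,0,0,0,0,0,0,0,0,0,0,0,0,0,0,0,0,0,0,0,0,0,0,0,0,0,0,0,0,0,0,0,0,0,0,0,0,0,0,0,0,0,0,0,0,0,0,0,0,0,0,0,0,0,0,0,0,0,0,0,0,0,0,0,0,0,0,0]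

/-- A row of the certificate. -/
def lamB32 : List ℤ := [0,0,0,0,0,0,0,0,0,0,-2,2,0,0,0,0,0,0,0,0,0,2,0,1,1,-1,0,-2,0,0,0,0,0,0,1,1,0,-2,2,1,0,0,0,0,0,0,0,0,0,0,0,0,0,-2,-2,-1,0,0,-2,0,0,0,0,0,0,0,0,0,0,0,0,0,1,2,0,0,0,0,1]

/-- A row of the certificate. -/
def lamB33 : List ℤ := [0,0,0,0,0,0,0,0,0,0,1,-1,0,0,0,0,0,0,0,0,0,-1,0,0,0,1,0,0,0,0,-1,0,0,0,0,0,0,0,0,0,0,0,0,0,0,0,0,0,0,0,0,0,0,1,1,0,0,0,1,0,0,0,0,0,-1,0,0,0,0,1,0,0,0,-1,0,-1,0,0,0]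

/-- A row of the certificate. -/
def lamB34 : List ℤ := [0,0,0,0,0,0,0,0,0,0,0,0,0,0,0,0,0,0,0,0,0,0,0,0,0,0,0,0,0,0,0,0,0,0,0,0,0,0,0,0,0,0,0,0,0,0,1,0,0,0,0,0,0,0,0,0,0,0,0,0,0,0,0,0,0,0,0,0,0,0,0,0,0,0,0,0,0,0,0]

/-- A row of the certificate. -/
def lamB35 : List ℤ := [0,0,0,0,0,0,0,0,0,0,1,-1,0,0,0,0,-4,0,1,0,2,-1,0,-1,0,3,0,0,0,0,0,-1,-2,0,0,0,0,-1,0,0,-2,0,0,0,0,-4,0,0,0,0,0,0,0,1,1,0,0,0,1,-2,0,0,0,0,0,0,4,-2,0,0,0,0,0,-1,0,0,-1,0,-1]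

/-- A row of the certificate. -/
def lamB36 : List ℤ := [0,0,-1,0,0,0,0,1,0,0,-4,4,0,1,0,0,0,0,0,1,0,2,0,1,1,-3,0,-3,0,0,-1,0,0,0,1,1,-1,-4,3,1,0,0,0,0,1,0,0,0,2,1,0,0,0,-2,-4,-1,0,-1,-2,0,0,0,0,0,0,0,0,0,0,0,-1,1,1,4,0,0,0,0,1]

/-- A row of the certificate. -/
def lamB37 : List ℤ := [0,0,0,0,0,0,0,0,0,0,0,0,0,0,0,0,0,0,0,0,0,0,0,0,0,0,0,0,0,0,0,0,0,0,0,0,0,0,0,0,0,0,0,0,0,0,0,0,0,1,0,0,0,0,0,0,0,0,0,0,0,0,0,0,0,0,0,0,0,0,0,0,0,0,0,0,0,0,0]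

/-- A row of the certificate. -/
def lamB38 : List ℤ := [0,0,0,0,0,0,0,0,0,0,0,0,0,0,0,0,0,0,0,0,0,0,0,0,0,0,0,0,0,0,1,0,0,0,0,0,0,0,0,0,0,0,0,0,0,0,0,0,0,0,0,0,0,0,0,0,0,1,0,0,0,0,0,0,0,0,0,0,0,0,0,0,0,0,0,0,0,0,0]

/-- A row of the certificate. -/
def lamB39 : List ℤ := [0,0,0,0,0,0,0,0,0,0,1,-1,0,0,0,0,0,0,0,0,0,-1,0,0,0,1,0,0,0,0,0,0,0,0,0,0,0,-1,0,0,0,0,0,0,0,0,0,0,0,0,0,0,0,1,1,0,0,0,1,0,0,0,0,1,0,0,0,0,0,0,0,0,0,-1,0,0,0,0,-1]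

/-- A row of the certificate. -/
def lamB40 : List ℤ := [0,0,0,0,0,0,0,0,0,0,0,0,0,0,0,0,0,0,0,0,0,0,0,0,0,0,0,0,0,0,0,0,0,0,0,0,0,0,0,0,0,0,0,0,0,0,0,0,0,0,0,0,0,0,0,0,0,0,0,0,0,0,0,0,0,-1,0,0,0,0,0,0,0,0,0,0,0,0,0]

/-- A row of the certificate. -/
def lamB41 : List ℤ := [0,0,0,0,0,0,0,0,0,0,-1,1,0,0,0,0,3,0,-1,0,-2,1,0,1,0,-3,0,0,0,0,0,1,2,0,0,0,0,1,0,0,2,0,0,0,0,3,0,0,0,0,0,0,0,-1,-1,0,0,0,-1,2,0,0,0,0,0,0,-3,2,0,0,0,0,0,1,0,0,1,0,1]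

/-- A row of the certificate. -/
def lamB42 : List ℤ := [0,0,0,0,0,0,0,0,0,0,0,0,0,0,0,0,0,0,0,0,0,0,0,0,0,0,0,0,0,0,0,0,0,0,0,0,0,0,0,0,0,0,0,0,0,0,0,0,0,0,0,0,0,0,0,0,0,0,0,0,0,0,-1,0,0,0,0,0,0,0,0,0,0,0,0,0,0,0,0]

/-- A row of the certificate. -/
def lamB43 : List ℤ := [0,0,0,0,0,0,0,0,0,0,-1,1,0,0,0,0,0,0,0,0,0,1,0,0,0,-1,0,0,0,-1,0,0,0,0,0,0,0,0,0,0,0,0,0,0,0,0,0,0,0,0,0,0,0,-1,-1,0,0,0,-1,0,1,0,0,0,0,0,0,0,0,0,0,0,0,1,0,0,0,0,1]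

/-- A row of the certificate. -/
def lamB44 : List ℤ := [0,0,0,0,0,0,0,-1,1,-1,2,-1,0,0,0,0,0,0,0,0,0,0,0,-1,0,1,0,0,0,0,-1,0,0,0,0,0,0,0,0,0,0,0,0,0,0,0,0,0,-1,-1,0,1,0,0,1,0,0,0,0,0,0,0,0,0,0,0,0,0,0,0,0,0,0,-1,0,0,0,1,0]

/-- A row of the certificate. -/
def lamB45 : List ℤ := [0,0,0,0,0,0,0,0,0,0,0,0,0,0,0,0,0,0,0,0,0,-1,0,0,0,0,0,0,0,0,0,0,0,0,0,0,0,0,0,0,0,0,0,0,0,0,0,0,0,0,0,0,0,0,0,0,0,0,1,0,0,0,0,0,0,0,0,0,0,0,0,0,0,0,0,0,0,0,-1]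

/-- A row of the certificate. -/
def lamB46 : List ℤ := [0,0,0,0,0,0,0,0,0,0,-1,1,0,0,0,0,0,0,0,0,0,1,0,0,0,-1,0,0,0,0,0,0,0,0,0,0,0,0,0,0,0,0,0,0,0,0,0,0,0,0,0,0,0,-1,-1,0,0,0,-1,0,0,0,0,0,1,0,0,0,0,0,0,0,0,1,0,0,0,0,1]

/-- A row of the certificate. -/
def lamB47 : List ℤ := [0,0,0,0,0,0,0,0,0,0,0,0,0,0,0,0,0,0,0,0,0,0,0,0,0,0,0,0,0,0,0,0,0,0,0,0,0,0,0,0,0,0,0,0,0,0,0,1,0,0,0,0,0,0,0,0,0,0,0,0,0,0,0,0,0,0,0,0,0,0,0,0,0,0,0,0,0,0,0]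

/-- A row of the certificate. -/
def lamB48 : List ℤ := [0,0,0,0,0,0,0,0,0,0,-1,1,0,0,0,0,0,0,0,0,0,1,0,0,0,-1,0,-1,0,0,0,0,0,0,1,1,0,-1,1,0,0,0,0,0,0,0,0,0,0,0,0,0,0,-1,-1,-1,0,0,-1,0,0,0,0,0,0,0,0,0,0,0,0,0,1,1,0,0,0,0,0]

/-- A row of the certificate. -/
def lamB49 : List ℤ := [0,0,0,0,0,0,0,0,0,0,0,0,0,0,0,0,0,0,0,0,0,0,0,0,0,0,0,0,0,0,0,0,0,0,0,0,0,0,0,0,0,0,0,0,0,0,0,0,0,0,0,0,1,0,0,0,0,0,0,0,0,0,0,0,0,0,0,0,0,0,0,0,0,0,0,0,0,0,0]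

/-- A row of the certificate. -/
def lamB50 : List ℤ := [0,0,0,0,0,0,0,0,0,0,0,0,0,0,0,0,0,0,0,0,0,0,0,0,0,0,0,0,0,0,0,0,0,0,0,0,0,0,0,0,0,0,0,0,0,0,0,0,0,0,0,0,0,0,1,0,0,0,0,0,0,0,0,0,0,0,0,0,0,0,0,0,0,0,0,0,0,0,0]

/-- A row of the certificate. -/
def lamB51 : List ℤ := [0,0,0,0,0,0,0,0,0,0,0,0,0,0,0,0,0,0,0,0,0,0,0,0,0,0,0,0,0,0,0,0,0,0,0,-1,0,0,0,0,0,0,0,0,0,0,0,0,0,0,0,0,0,0,0,0,0,0,0,0,0,0,0,0,0,0,0,0,0,0,0,0,0,0,0,0,0,0,0]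

/-- A row of the certificate. -/
def lamB52 : List ℤ := [0,0,0,0,0,0,0,0,0,0,0,0,0,0,0,0,0,0,0,0,0,0,0,0,0,0,0,0,0,0,0,0,0,0,0,0,0,0,0,0,0,0,0,0,-1,0,0,0,0,0,0,0,0,0,0,0,0,0,0,0,0,0,0,0,0,0,0,0,0,0,0,0,0,0,0,0,0,0,0]

/-- A row of the certificate. -/
def lamB53 : List ℤ := [0,0,0,0,0,0,0,0,0,0,-1,1,0,0,0,0,2,0,-1,0,-1,1,0,1,0,-2,0,0,0,0,0,1,2,0,0,0,0,1,0,0,2,0,0,0,0,2,0,0,0,0,0,0,0,-1,-1,0,0,0,-1,2,0,0,0,0,0,0,-2,1,0,0,0,0,0,1,0,0,1,0,1]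

/-- A row of the certificate. -/
def lamB54 : List ℤ := [0,0,0,0,0,0,0,0,0,0,1,-1,0,0,0,0,0,0,0,-1,0,-1,0,0,0,1,0,1,0,0,0,0,0,0,0,0,0,1,-1,0,0,0,0,0,0,0,0,0,0,0,0,0,0,1,1,0,0,0,1,0,0,0,0,0,0,0,0,0,0,0,0,0,0,-1,0,0,0,0,-1]

/-- A row of the certificate. -/
def lamB55 : List ℤ := [0,0,0,0,0,0,0,0,0,0,-1,1,0,0,0,0,0,0,0,0,0,1,0,0,0,-1,0,0,0,0,0,0,0,0,0,0,0,1,0,0,0,0,0,0,0,0,0,0,0,0,0,0,0,-1,-1,0,0,0,-1,0,0,0,0,0,0,0,0,0,0,0,0,0,0,1,0,0,0,0,1]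

/-- A row of the certificate. -/
def lamB56 : List ℤ := [0,0,0,0,0,0,0,0,0,0,1,-1,0,0,0,0,0,0,0,0,0,-1,0,0,0,1,0,0,0,0,0,0,0,0,0,0,0,0,0,0,0,0,0,0,0,0,0,0,0,0,0,0,0,1,1,0,0,0,1,0,0,0,0,0,0,0,0,0,0,0,0,0,0,-1,0,0,0,0,-1]

/-- A row of the certificate. -/
def lamB57 : List ℤ := [0,0,0,0,0,0,0,0,0,0,0,0,0,0,0,0,0,0,0,0,0,0,0,0,0,0,0,0,-1,0,0,0,0,0,-1,0,0,0,0,0,0,0,0,0,0,0,0,0,0,0,0,0,0,0,0,1,1,0,0,0,0,0,0,0,0,0,0,0,0,0,0,0,0,0,0,0,0,0,1]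

/-- A row of the certificate. -/
def lamB58 : List ℤ := [0,0,0,0,0,0,1,-1,0,-1,1,0,0,0,0,0,0,0,0,0,0,1,0,-1,0,0,0,0,0,0,-1,0,0,0,0,0,0,1,0,0,0,0,0,0,0,0,0,0,-1,-1,0,1,0,-1,0,0,0,0,-1,0,0,0,0,0,0,0,0,0,0,0,0,0,0,0,-1,0,0,0,1]

/-- A row of the certificate. -/
def lamB59 : List ℤ := [0,0,0,0,0,0,0,0,0,0,-1,1,0,0,0,0,0,0,0,0,0,0,0,0,0,-1,0,0,0,0,0,0,0,0,0,0,0,0,0,0,0,0,0,0,0,0,0,0,0,0,0,0,0,0,-1,0,0,0,0,0,0,0,0,0,0,0,0,0,0,0,0,0,0,1,0,0,0,0,0]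

/-- A row of the certificate. -/
def lamB60 : List ℤ := [0,0,0,0,0,0,0,0,0,0,1,-1,0,0,0,0,-2,0,1,0,1,-1,0,-1,0,2,0,0,0,0,0,-1,-1,0,0,0,0,-1,0,0,-1,0,0,0,0,-2,0,0,0,0,0,0,0,1,1,0,0,0,1,-1,0,0,0,0,0,0,2,-1,0,0,0,0,0,-1,0,0,-1,0,-1]

/-- A row of the certificate. -/
def lamB61 : List ℤ := [0,0,0,0,0,0,0,0,0,0,-1,1,1,0,0,0,2,0,-1,0,-1,1,0,1,0,-2,0,0,0,0,0,1,2,0,0,0,0,1,0,0,2,-1,0,0,0,2,0,0,0,0,0,0,0,-1,-1,0,0,0,-1,1,0,0,0,0,0,0,-2,1,0,0,0,0,0,1,0,0,1,0,1]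

/-- A row of the certificate. -/
def lamB62 : List ℤ := [0,0,0,0,0,0,0,0,0,0,0,0,0,1,0,0,0,0,0,0,0,0,0,0,0,0,0,0,0,0,0,0,0,0,0,0,0,0,0,0,0,0,0,0,0,0,0,0,0,0,0,0,0,0,0,0,0,0,0,0,0,0,0,0,0,0,0,0,0,0,0,0,0,0,0,0,0,0,0]

/-- A row of the certificate. -/
def lamB63 : List ℤ := [0,0,0,0,0,0,0,0,0,0,1,-1,0,0,0,0,0,0,0,0,0,-1,0,0,-1,1,0,1,0,0,0,0,0,0,0,0,0,1,-1,0,0,0,0,0,0,0,0,0,0,0,0,0,0,1,1,0,0,0,1,0,0,0,0,0,0,0,0,0,0,0,0,0,0,-1,0,0,0,0,-1]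

/-- A row of the certificate. -/
def lamB64 : List ℤ := [0,0,0,0,0,0,0,0,0,0,-1,1,0,0,0,0,0,0,0,0,0,1,0,0,0,-1,0,0,0,0,0,0,0,-1,0,0,0,1,0,0,0,0,0,0,0,0,0,0,0,0,1,0,0,-1,-1,0,0,0,-1,0,0,0,0,0,0,0,0,0,0,0,0,0,0,1,0,0,0,0,1]

/-- A row of the certificate. -/
def lamB65 : List ℤ := [0,0,0,0,0,0,0,0,0,0,0,0,0,0,0,0,0,0,0,0,0,0,0,0,0,0,0,0,0,-1,0,0,0,0,0,0,0,0,0,0,0,0,0,0,0,0,0,0,0,0,0,0,0,0,0,0,0,0,0,0,0,0,0,0,0,0,0,0,0,0,0,0,0,0,0,0,0,0,0]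

/-- A row of the certificate. -/
def lamB66 : List ℤ := [0,0,0,0,0,0,0,0,0,0,0,0,0,0,0,0,0,0,0,0,0,0,0,0,0,0,0,0,0,0,0,0,0,0,0,0,-1,0,0,0,0,0,0,0,0,0,0,0,0,0,0,0,0,0,0,0,0,0,0,0,0,0,0,0,0,0,0,0,0,0,0,0,0,0,0,0,0,0,0]

/-- A row of the certificate. -/
def lamB67 : List ℤ := [0,0,0,0,0,0,0,0,0,0,0,0,0,0,0,0,0,0,0,0,0,0,0,0,0,0,0,0,0,0,0,0,0,0,-1,0,0,0,0,0,0,0,0,0,0,0,0,0,0,0,0,0,0,0,0,1,0,0,0,0,0,0,0,0,0,0,0,0,0,0,0,0,0,0,0,0,0,0,1]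

/-- A row of the certificate. -/
def lamB68 : List ℤ := [0,0,0,0,0,0,0,0,1,0,0,0,0,0,0,0,0,0,0,0,0,0,0,0,0,0,0,0,0,0,0,0,0,0,0,0,0,0,0,0,0,0,0,0,0,0,0,0,0,0,0,0,0,0,0,0,0,0,0,0,0,0,0,0,0,0,0,0,0,0,0,0,0,0,0,0,0,0,0]

/-- A row of the certificate. -/
def lamB69 : List ℤ := [0,0,0,0,0,0,0,0,0,0,0,0,0,0,0,0,0,0,0,0,0,0,0,0,0,0,0,0,0,0,-1,0,0,0,0,0,0,0,0,0,0,0,0,0,0,0,0,0,0,0,0,0,0,0,0,0,0,0,0,0,0,0,0,0,0,0,0,0,0,0,0,0,0,0,0,0,0,0,0]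

/-- A row of the certificate. -/
def lamB70 : List ℤ := [0,0,0,0,0,0,0,0,0,0,-1,1,0,0,0,1,2,0,-1,0,-1,1,0,1,0,-2,0,0,0,0,0,1,1,0,0,0,0,1,0,0,1,0,0,0,0,2,0,0,0,0,0,0,0,-1,-1,0,0,0,-1,1,0,0,0,0,0,0,-2,1,0,0,0,0,0,1,0,0,1,0,1]

/-- A row of the certificate. -/
def lamB71 : List ℤ := [0,0,0,0,0,0,0,0,0,1,0,0,0,0,0,0,0,0,0,0,0,0,0,0,0,0,0,0,0,0,0,0,0,0,0,0,0,0,0,0,0,0,0,0,0,0,0,0,0,0,0,0,0,0,0,0,0,0,0,0,0,0,0,0,0,0,0,0,0,0,0,0,0,0,0,0,0,0,0]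

/-- A row of the certificate. -/
def lamB72 : List ℤ := [0,0,0,0,0,0,0,0,0,0,0,0,0,0,0,0,0,0,0,0,0,0,0,-1,0,0,0,0,0,0,0,0,0,0,0,0,0,0,0,0,0,0,0,0,0,0,0,0,0,0,0,0,0,0,0,0,0,0,0,0,0,0,0,0,0,0,0,0,0,0,0,0,0,0,0,0,0,0,0]

/-- A row of the certificate. -/
def lamB73 : List ℤ := [0,0,0,0,0,0,0,0,0,0,-1,1,0,0,0,0,0,0,0,0,0,1,0,0,0,-1,0,-1,0,0,0,0,0,0,0,0,0,-1,1,0,0,0,0,0,0,0,0,0,0,0,0,0,0,-1,-1,0,0,0,-1,0,0,0,0,0,0,0,0,0,0,0,0,0,0,1,0,0,0,0,1]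

/-- A row of the certificate. -/
def lamB74 : List ℤ := [0,0,0,0,0,0,0,0,0,0,0,0,0,0,0,0,0,0,1,0,0,0,0,0,0,0,0,0,0,0,0,0,0,0,0,0,0,0,0,0,0,0,0,0,0,0,0,0,0,0,0,0,0,0,0,0,0,0,0,0,0,0,0,0,0,0,0,0,0,0,0,0,0,0,0,0,0,0,0]

/-- A row of the certificate. -/
def lamB75 : List ℤ := [0,0,0,0,0,0,0,0,0,0,0,0,0,0,0,0,0,0,0,0,0,0,1,0,0,0,0,0,0,0,0,0,0,0,0,0,0,0,0,0,0,0,0,0,0,0,0,0,0,0,0,0,0,0,0,0,0,0,0,0,0,0,0,0,0,0,0,0,0,0,0,0,0,0,0,0,0,0,0]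

/-- A row of the certificate. -/
def lamB76 : List ℤ := [0,0,0,0,0,0,0,0,0,0,0,0,0,0,0,0,0,0,0,0,0,0,0,0,0,1,0,0,0,0,0,0,0,0,0,0,0,0,0,0,0,0,0,0,0,0,0,0,0,0,0,0,0,0,0,0,0,0,0,0,0,0,0,0,0,0,0,0,0,0,0,0,0,0,0,0,0,0,0]

/-- A row of the certificate. -/
def lamB77 : List ℤ := [0,0,0,0,0,0,0,0,0,0,0,0,0,0,0,0,0,0,0,0,0,0,0,0,0,0,0,0,0,0,0,0,1,0,0,0,0,0,0,0,0,0,0,0,0,0,0,0,0,0,0,0,0,0,0,0,0,0,0,0,0,0,0,0,0,0,0,0,0,0,0,0,0,0,0,0,0,0,0]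

/-- Certificate data. -/
def dataB : Engine.Data where
  p := 2
  n := 12
  rhs := rhsTwo
  ord := [2,2,2,2,2,2,2,2,2,2,2,2]
  eqs := [
    .cons [1,1] [0],
    .cons [2,2] [0],
    .cons [3,3] [0],
    .cons [3,3] [1],
    .cons [3,3] [2],
    .cons [4,4] [0],
    .cons [4,4] [1],
    .cons [4,4] [2],
    .cons [4,2] [1],
    .cons [4,3] [1],
    .cons [5,5] [1],
    .cons [5,5] [2],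
    .cons [5,5] [4],
    .cons [5,4] [0],
    .cons [6,6] [1],
    .cons [6,5] [3],
    .cons [7,7] [2],
    .cons [7,7] [3],
    .cons [7,4] [2],
    .cons [7,6] [3],
    .cons [8,8] [1],
    .cons [8,8] [5],
    .cons [8,5] [1],
    .cons [8,5] [4],
    .cons [8,6] [3],
    .cons [9,5] [1],
    .cons [9,9] [6],
    .cons [9,9] [8],
    .cons [10,10] [0],
    .cons [10,2] [0],
    .cons [10,2] [1],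
    .cons [10,10] [3],
    .cons [10,3] [0],
    .cons [10,10] [7],
    .cons [11,11] [0],
    .fus 0 [6] [3] [6,9] [3],
    .fus 0 [10] [6] [10] [6,9],
    .fus 0 [7,8] [6] [7,8] [6,9],
    .fus 0 [6,9] [7] [6] [7,11],
    .fus 0 [6,10] [0,5] [6,9,10] [0,10],
    .fus 1 [5] [4] [3,11] [3,10,11],
    .fus 2 [9] [4] [4,5,9,10] [4],
    .fus 3 [11] [4] [3,11] [4],
    .fus 3 [3,5] [11] [3,5] [3,11],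
    .fus 4 [5] [4] [5,9] [4],
    .fus 4 [2,4] [1] [1,4,8] [1],
    .fus 4 [2,7] [1] [2] [1],
    .fus 4 [7,8] [2,7] [7,8] [2],
    .fus 4 [4,9] [2,7] [5,9,10] [2],
    .fus 4 [4,11] [2,8] [4,11] [2,7,8],
    .fus 4 [1,2,7] [9,10] [1,2] [9,10],
    .fus 5 [1,4,7] [1,7] [2,4,7,8,11] [2,7,8],
    .fus 6 [1,11] [5,10] [1,11] [5,9,10],
    .fus 7 [8,10] [2,10] [2,5,8,9,10,11] [2,5,9,10,11],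
    .fus 8 [2,11] [4,5] [2,11] [4,9],
    .fus 9 [5] [0] [11] [0],
    .fus 9 [8] [0] [0,8,10,11] [0],
    .fus 9 [2,7] [5] [2,7] [11],
    .fus 9 [2,7,10] [0] [2,5,7,10] [0],
    .fus 9 [2,7,10] [4,9] [2,5,7,10] [4,9],
    .fus 10 [0,8] [3] [8] [9,11],
    .fus 11 [4,5,9] [2,4,7] [3,4] [0,2,4,7],
    .fus 12 [11] [2] [8,11] [2],
    .fus 13 [7] [6] [7] [9],
    .fus 13 [8] [6] [8] [9],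
    .fus 13 [10] [0] [8,10] [0],
    .fus 14 [11] [2] [1,2,7,11] [2],
    .fus 15 [7] [2] [9] [5,9,11],
    .fus 16 [0,6,8] [5,6] [0,8,9] [0,5,8,9],
    .fus 17 [2,5,8,9] [2] [0,6,8,9,11] [2],
    .fus 18 [0,2,3,6] [3,4,5] [0,2,3,7] [3,4,5],
    .fus 19 [0,5,6,8] [3,10,11] [0,5,8,10,11] [3,10,11],
    .fus 20 [0,6,11] [0,6] [0,3,10,11] [0,9,10,11],
    .fus 21 [1,2] [5] [2] [5,9,10,11],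
    .fus 22 [10,11] [8,11] [4,10] [1,8],
    .fus 23 [5,7,9] [2,9] [0,5,7,8,9,10,11] [0,2,8,9,10,11],
    .fus 24 [2,7,9] [2,5,9] [2,7,9] [5],
    .fus 25 [9] [7] [4,11] [1,4,11],
    .fus 26 [0] [5] [] []]
  comp := [
    compB0,
    compB1,
    compB2,
    compB3,
    compB4,
    compB5,
    compB6,
    compB7,
    compB8,
    compB9,
    compB10,
    compB11]
  coord := [
    coordB0,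
    coordB1,
    coordB2,
    coordB3,
    coordB4,
    coordB5,
    coordB6,
    coordB7,
    coordB8,
    coordB9,
    coordB10,
    coordB11,
    coordB12,
    coordB13,
    coordB14,
    coordB15,
    coordB16,
    coordB17,
    coordB18,
    coordB19,
    coordB20,
    coordB21,
    coordB22,
    coordB23,
    coordB24,
    coordB25,
    coordB26,
    coordB27,
    coordB28,
    coordB29,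
    coordB30,
    coordB31,
    coordB32,
    coordB33,
    coordB34,
    coordB35,
    coordB36,
    coordB37,
    coordB38,
    coordB39,
    coordB40,
    coordB41,
    coordB42,
    coordB43,
    coordB44,
    coordB45,
    coordB46,
    coordB47,
    coordB48,
    coordB49,
    coordB50,
    coordB51,
    coordB52,
    coordB53,
    coordB54,
    coordB55,
    coordB56,
    coordB57,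
    coordB58,
    coordB59,
    coordB60,
    coordB61,
    coordB62,
    coordB63,
    coordB64,
    coordB65,
    coordB66,
    coordB67,
    coordB68,
    coordB69,
    coordB70,
    coordB71,
    coordB72,
    coordB73,
    coordB74,
    coordB75,
    coordB76,
    coordB77]
  scale := 2
  back := [
    [0,0,0,0,0,0,0,0,1,0,0,0],
    [0,0,0,0,0,0,0,0,0,1,0,0],
    [0,0,2,0,0,0,-2,0,0,0,0,0],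
    [0,0,0,0,0,1,0,0,0,0,0,0],
    [0,0,0,0,0,0,0,0,0,0,-2,2],
    [0,2,0,-2,0,0,0,0,0,0,0,-2],
    [1,0,0,0,0,0,0,0,0,0,0,0],
    [0,0,-2,0,0,0,0,2,0,0,0,0],
    [0,0,0,0,0,0,0,-2,0,0,0,2],
    [0,2,0,0,-2,0,0,0,0,0,0,0],
    [0,-2,0,0,0,0,0,0,0,0,0,2],
    [0,0,0,0,0,0,0,0,0,0,0,-2]]
  lam := [
    lamB0,
    lamB1,
    lamB2,
    lamB3,
    lamB4,
    lamB5,
    lamB6,
    lamB7,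
    lamB8,
    lamB9,
    lamB10,
    lamB11,
    lamB12,
    lamB13,
    lamB14,
    lamB15,
    lamB16,
    lamB17,
    lamB18,
    lamB19,
    lamB20,
    lamB21,
    lamB22,
    lamB23,
    lamB24,
    lamB25,
    lamB26,
    lamB27,
    lamB28,
    lamB29,
    lamB30,
    lamB31,
    lamB32,
    lamB33,
    lamB34,
    lamB35,
    lamB36,
    lamB37,
    lamB38,
    lamB39,
    lamB40,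
    lamB41,
    lamB42,
    lamB43,
    lamB44,
    lamB45,
    lamB46,
    lamB47,
    lamB48,
    lamB49,
    lamB50,
    lamB51,
    lamB52,
    lamB53,
    lamB54,
    lamB55,
    lamB56,
    lamB57,
    lamB58,
    lamB59,
    lamB60,
    lamB61,
    lamB62,
    lamB63,
    lamB64,
    lamB65,
    lamB66,
    lamB67,
    lamB68,
    lamB69,
    lamB70,
    lamB71,
    lamB72,
    lamB73,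
    lamB74,
    lamB75,
    lamB76,
    lamB77]
  zeta := [0,0,0,0,0,0,0,0,0,0,0,0,0,0,0,0,0,0,0,0,0,0,0,1,-1,0,0,0,0,0,0,0,0,0,0,0,0,0,0,0,0,0,0,0,0,0,0,0,0,0,0,0,0,0,0,0,0,0,0,0,0,0,0,0,0,0,0,0,0,0,0,0,0,0,0,0,0,0]
  mu := [0,0,0,0,1,2,0,3,-2,11,0,0,0,1,-1,0,0,-6,0,-1,0,0,0,1,0,0,-1,-2,0,0,0,0,-2,1,0,1,-4,0,0,1,0,-1,0,-1,3,0,-1,0,-1,0,0,0,0,-1,1,-1,1,0,2,-1,1,-1,0,1,-1,0,0,0,0,0,-1,0,0,-1,0,0,0,0]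
  bound := 2
  lamz := [0,0,0,0,0,0,0,0,0,0,-2,2,0,0,0,0,0,0,0,2,0,2,0,0,0,-2,-1,-2,0,0,0,0,0,0,0,0,0,-2,2,0,0,0,0,0,0,0,0,0,0,0,0,0,0,-2,-2,0,0,0,-2,0,0,0,0,0,0,0,0,0,0,0,0,0,0,2,0,0,0,0,2]

end Cfsg.Agent.Lib.SchurMult.PlusEight
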