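import Cfsg.Agent.Lib.SchurMult.PlusEight.DataTwo

/-! A certificate for the prime two. -/

set_option autoImplicit false
set_option maxRecDepth 100000

namespace Cfsg.Agent.Lib.SchurMult.PlusEight

/-- A row of the certificate. -/
def compC0 : List ℤ := [0,0,0,0,0,0,0,0,0,0,0,0,1,0,0,0,0,0,0,0,0,0,0,0,0,0,0,0,0,0,0,0,0,0,0,0,0,0,0,0,0,0,0,0,0,0,0,0,0,0,0,0,0,0,0,0,0,0,0,0,0,0,0,0,0,0,0,0,0,0,0,0,0,0,0,0,0,0]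

/-- A row of the certificate. -/
def compC1 : List ℤ := [0,1,0,0,0,0,0,0,0,0,0,0,0,0,0,0,0,0,0,0,0,0,0,0,0,0,0,0,0,0,0,0,0,0,0,0,0,0,0,0,0,0,0,0,0,0,0,0,0,0,0,0,0,0,0,0,0,0,0,0,0,0,0,0,0,0,0,0,0,0,0,0,0,0,0,0,0,0]

/-- A row of the certificate. -/
def compC2 : List ℤ := [1,0,0,0,0,0,0,0,0,0,0,0,0,0,0,0,0,0,0,0,0,0,0,0,0,0,0,0,0,0,0,0,0,0,0,0,0,0,0,0,0,0,0,0,0,0,0,0,0,0,0,0,0,0,0,0,0,0,0,0,0,0,0,0,0,0,0,0,0,0,0,0,0,0,0,0,0,0]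

/-- A row of the certificate. -/
def compC3 : List ℤ := [0,0,0,1,0,0,0,0,0,0,0,0,0,0,0,0,0,0,0,0,0,0,0,0,0,0,0,0,0,0,0,0,0,0,0,0,0,0,0,0,0,0,0,0,0,0,0,0,0,0,0,0,0,0,0,0,0,0,0,0,0,0,0,0,0,0,0,0,0,0,0,0,0,0,0,0,0,0]

/-- A row of the certificate. -/
def compC4 : List ℤ := [0,0,0,0,0,0,0,0,0,0,0,0,0,0,0,0,0,0,0,0,0,0,0,0,0,0,0,0,0,1,0,0,0,0,0,0,0,0,0,0,0,0,0,0,0,0,0,0,0,0,0,0,0,0,0,0,0,0,0,0,0,0,0,0,0,0,0,0,0,0,0,0,0,0,0,0,0,0]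

/-- A row of the certificate. -/
def compC5 : List ℤ := [0,0,0,0,0,0,0,0,0,0,0,0,0,0,0,1,0,0,0,0,0,0,0,0,0,0,0,0,0,0,0,0,0,0,0,0,0,0,0,0,0,0,0,0,0,0,0,0,0,0,0,0,0,0,0,0,0,0,0,0,0,0,0,0,0,0,0,0,0,0,0,0,0,0,0,0,0,0]

/-- A row of the certificate. -/
def compC6 : List ℤ := [0,0,0,0,0,0,0,0,0,0,0,0,0,0,0,0,1,0,0,0,0,0,0,0,0,0,0,0,0,0,0,0,0,0,0,0,0,0,0,0,0,0,0,0,0,0,0,0,0,0,0,0,0,0,0,0,0,0,0,0,0,0,0,0,0,0,0,0,0,0,0,0,0,0,0,0,0,0]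

/-- A row of the certificate. -/
def compC7 : List ℤ := [0,0,0,0,0,0,1,0,0,0,0,0,0,0,0,0,0,0,0,0,0,0,0,0,0,0,0,0,0,0,0,0,0,0,0,0,0,0,0,0,0,0,0,0,0,0,0,0,0,0,0,0,0,0,0,0,0,0,0,0,0,0,0,0,0,0,0,0,0,0,0,0,0,0,0,0,0,0]

/-- A row of the certificate. -/
def compC8 : List ℤ := [0,0,0,0,0,0,0,0,0,0,0,0,0,0,0,0,0,1,0,0,0,0,0,0,0,0,0,0,0,0,0,0,0,0,0,0,0,0,0,0,0,0,0,0,0,0,0,0,0,0,0,0,0,0,0,0,0,0,0,0,0,0,0,0,0,0,0,0,0,0,0,0,0,0,0,0,0,0]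

/-- A row of the certificate. -/
def compC9 : List ℤ := [0,0,0,0,0,0,0,0,0,0,0,0,0,0,0,0,0,0,1,0,0,0,0,0,0,0,0,0,0,0,0,0,0,0,0,0,0,0,0,0,0,0,0,0,0,0,0,0,0,0,0,0,0,0,0,0,0,0,0,0,0,0,0,0,0,0,0,0,0,0,0,0,0,0,0,0,0,0]

/-- A row of the certificate. -/
def compC10 : List ℤ := [0,0,0,0,0,0,0,0,0,0,0,0,0,0,0,0,0,0,0,0,0,0,0,0,0,0,0,0,1,0,0,0,0,0,0,0,0,0,0,0,0,0,0,0,0,0,0,0,0,0,0,0,0,0,0,0,0,0,0,0,0,0,0,0,0,0,0,0,0,0,0,0,0,0,0,0,0,0]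

/-- A row of the certificate. -/
def compC11 : List ℤ := [0,0,0,0,0,0,0,0,0,0,0,0,0,0,0,0,0,0,0,0,1,0,0,0,0,0,0,0,0,0,0,0,0,0,0,0,0,0,0,0,0,0,0,0,0,0,0,0,0,0,0,0,0,0,0,0,0,0,0,0,0,0,0,0,0,0,0,0,0,0,0,0,0,0,0,0,0,0]

/-- A row of the certificate. -/
def coordC0 : List ℤ := [0,0,1,0,0,0,0,0,0,0,0,0]

/-- A row of the certificate. -/
def coordC1 : List ℤ := [0,1,0,0,0,0,0,0,0,0,0,0]

/-- A row of the certificate. -/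
def coordC2 : List ℤ := [-2,0,0,0,0,0,0,0,0,0,2,0]

/-- A row of the certificate. -/
def coordC3 : List ℤ := [0,0,0,1,0,0,0,0,0,0,0,0]

/-- A row of the certificate. -/
def coordC4 : List ℤ := [0,0,0,0,0,0,-2,0,0,0,0,2]

/-- A row of the certificate. -/
def coordC5 : List ℤ := [0,0,0,0,0,2,0,0,0,-2,0,-2]

/-- A row of the certificate. -/
def coordC6 : List ℤ := [0,0,0,0,0,0,0,1,0,0,0,0]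

/-- A row of the certificate. -/
def coordC7 : List ℤ := [0,0,0,0,2,0,0,0,0,0,-2,0]

/-- A row of the certificate. -/
def coordC8 : List ℤ := [0,0,0,0,-2,0,0,0,0,0,0,2]

/-- A row of the certificate. -/
def coordC9 : List ℤ := [0,0,0,0,0,-2,0,0,-2,2,0,2]

/-- A row of the certificate. -/
def coordC10 : List ℤ := [0,0,0,0,0,-2,0,0,0,0,0,2]

/-- A row of the certificate. -/
def coordC11 : List ℤ := [0,0,0,0,0,0,0,0,0,0,0,-2]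

/-- A row of the certificate. -/
def coordC12 : List ℤ := [1,0,0,0,0,0,0,0,0,0,0,0]

/-- A row of the certificate. -/
def coordC13 : List ℤ := [0,0,0,0,1,0,0,0,0,0,0,-1]

/-- A row of the certificate. -/
def coordC14 : List ℤ := [0,0,0,0,0,0,0,0,0,0,0,0]

/-- A row of the certificate. -/
def coordC15 : List ℤ := [0,0,0,0,0,1,0,0,0,0,0,0]

/-- A row of the certificate. -/
def coordC16 : List ℤ := [0,0,0,0,0,0,1,0,0,0,0,0]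

/-- A row of the certificate. -/
def coordC17 : List ℤ := [0,0,0,0,0,0,0,0,1,0,0,0]

/-- A row of the certificate. -/
def coordC18 : List ℤ := [0,0,0,0,0,0,0,0,0,1,0,0]

/-- A row of the certificate. -/
def coordC19 : List ℤ := [0,0,0,0,0,0,0,0,0,0,0,0]

/-- A row of the certificate. -/
def coordC20 : List ℤ := [0,0,0,0,0,0,0,0,0,0,0,1]

/-- A row of the certificate. -/
def coordC21 : List ℤ := [0,0,0,0,0,0,0,0,0,0,0,0]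

/-- A row of the certificate. -/
def coordC22 : List ℤ := [0,0,0,0,0,0,0,0,0,0,0,0]

/-- A row of the certificate. -/
def coordC23 : List ℤ := [0,0,0,0,0,0,0,0,0,0,0,1]

/-- A row of the certificate. -/
def coordC24 : List ℤ := [0,0,0,0,0,0,0,0,0,0,0,1]

/-- A row of the certificate. -/
def coordC25 : List ℤ := [0,0,0,0,0,0,0,0,0,0,0,0]

/-- A row of the certificate. -/
def coordC26 : List ℤ := [0,0,0,0,0,0,0,0,0,0,0,0]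

/-- A row of the certificate. -/
def coordC27 : List ℤ := [0,0,0,0,0,1,0,0,0,0,0,0]

/-- A row of the certificate. -/
def coordC28 : List ℤ := [0,0,0,0,0,0,0,0,0,0,1,0]

/-- A row of the certificate. -/
def coordC29 : List ℤ := [0,0,0,0,1,0,0,0,0,0,0,0]

/-- A row of the certificate. -/
def coordC30 : List ℤ := [0,0,0,0,0,0,0,0,0,0,0,0]

/-- A row of the certificate. -/
def coordC31 : List ℤ := [0,0,0,0,0,2,0,0,1,-1,0,-1]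

/-- A row of the certificate. -/
def coordC32 : List ℤ := [0,0,0,0,0,1,0,0,0,0,0,0]

/-- A row of the certificate. -/
def coordC33 : List ℤ := [0,0,0,0,1,0,0,0,0,0,0,-1]

/-- A row of the certificate. -/
def coordC34 : List ℤ := [0,0,0,0,0,0,0,0,0,0,0,0]

/-- A row of the certificate. -/
def coordC35 : List ℤ := [0,0,0,0,0,0,0,0,0,0,0,0]

/-- A row of the certificate. -/
def coordC36 : List ℤ := [0,0,0,0,0,1,0,0,1,-1,0,0]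

/-- A row of the certificate. -/
def coordC37 : List ℤ := [0,0,0,0,0,0,0,0,0,0,0,0]

/-- A row of the certificate. -/
def coordC38 : List ℤ := [0,0,0,0,0,0,0,0,0,0,0,1]

/-- A row of the certificate. -/
def coordC39 : List ℤ := [0,0,0,0,0,0,0,0,0,0,0,0]

/-- A row of the certificate. -/
def coordC40 : List ℤ := [0,0,0,0,0,0,0,0,0,0,0,0]

/-- A row of the certificate. -/
def coordC41 : List ℤ := [0,0,0,0,0,0,0,0,0,0,0,0]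

/-- A row of the certificate. -/
def coordC42 : List ℤ := [0,0,0,0,0,0,0,0,0,0,0,0]

/-- A row of the certificate. -/
def coordC43 : List ℤ := [0,0,0,0,0,1,0,0,0,0,0,0]

/-- A row of the certificate. -/
def coordC44 : List ℤ := [0,0,0,0,0,0,0,0,0,0,0,1]

/-- A row of the certificate. -/
def coordC45 : List ℤ := [0,0,0,0,0,0,0,0,0,0,0,0]

/-- A row of the certificate. -/
def coordC46 : List ℤ := [0,0,0,0,0,0,0,0,0,0,0,0]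

/-- A row of the certificate. -/
def coordC47 : List ℤ := [0,0,0,0,0,0,0,0,0,0,0,0]

/-- A row of the certificate. -/
def coordC48 : List ℤ := [0,0,0,0,0,1,0,0,0,0,0,0]

/-- A row of the certificate. -/
def coordC49 : List ℤ := [0,0,0,0,0,0,0,0,0,0,0,0]

/-- A row of the certificate. -/
def coordC50 : List ℤ := [0,0,0,0,0,0,0,0,0,0,0,1]

/-- A row of the certificate. -/
def coordC51 : List ℤ := [0,0,0,0,0,0,0,0,0,0,0,0]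

/-- A row of the certificate. -/
def coordC52 : List ℤ := [0,0,0,0,0,0,0,0,0,0,0,0]

/-- A row of the certificate. -/
def coordC53 : List ℤ := [0,0,0,0,0,0,0,0,0,0,0,0]

/-- A row of the certificate. -/
def coordC54 : List ℤ := [0,0,0,0,0,0,0,0,0,0,0,0]

/-- A row of the certificate. -/
def coordC55 : List ℤ := [0,0,0,0,0,0,0,0,0,0,0,0]

/-- A row of the certificate. -/
def coordC56 : List ℤ := [0,0,0,0,0,0,0,0,0,0,0,0]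

/-- A row of the certificate. -/
def coordC57 : List ℤ := [0,0,0,0,0,0,0,0,0,0,0,0]

/-- A row of the certificate. -/
def coordC58 : List ℤ := [0,0,0,0,0,0,0,0,0,0,0,1]

/-- A row of the certificate. -/
def coordC59 : List ℤ := [0,0,0,0,0,0,0,0,0,0,0,0]

/-- A row of the certificate. -/
def coordC60 : List ℤ := [0,0,0,0,0,0,0,0,0,0,0,0]

/-- A row of the certificate. -/
def coordC61 : List ℤ := [0,0,0,0,0,0,0,0,0,0,0,0]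

/-- A row of the certificate. -/
def coordC62 : List ℤ := [0,0,0,0,0,0,0,0,0,0,0,0]

/-- A row of the certificate. -/
def coordC63 : List ℤ := [0,0,0,0,0,0,0,0,0,0,0,0]

/-- A row of the certificate. -/
def coordC64 : List ℤ := [0,0,0,0,0,0,0,0,0,0,0,0]

/-- A row of the certificate. -/
def coordC65 : List ℤ := [0,0,0,0,0,0,0,0,0,0,0,0]

/-- A row of the certificate. -/
def coordC66 : List ℤ := [0,0,0,0,0,0,0,0,0,0,0,0]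

/-- A row of the certificate. -/
def coordC67 : List ℤ := [0,0,0,0,0,0,0,0,0,0,0,0]

/-- A row of the certificate. -/
def coordC68 : List ℤ := [0,0,0,0,0,0,0,0,0,0,0,0]

/-- A row of the certificate. -/
def coordC69 : List ℤ := [0,0,0,0,0,0,0,0,0,0,0,0]

/-- A row of the certificate. -/
def coordC70 : List ℤ := [0,0,0,0,0,0,0,0,0,0,0,0]

/-- A row of the certificate. -/
def coordC71 : List ℤ := [0,0,0,0,0,0,0,0,0,0,0,0]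

/-- A row of the certificate. -/
def coordC72 : List ℤ := [0,0,0,0,0,0,0,0,0,0,0,0]

/-- A row of the certificate. -/
def coordC73 : List ℤ := [0,0,0,0,0,0,0,0,0,0,0,0]

/-- A row of the certificate. -/
def coordC74 : List ℤ := [0,0,0,0,0,0,0,0,0,0,0,0]

/-- A row of the certificate. -/
def coordC75 : List ℤ := [0,0,0,0,0,0,0,0,0,0,0,0]

/-- A row of the certificate. -/
def coordC76 : List ℤ := [0,0,0,0,0,0,0,0,0,0,0,0]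

/-- A row of the certificate. -/
def coordC77 : List ℤ := [0,0,0,0,0,0,0,0,0,0,0,0]

/-- A row of the certificate. -/
def lamC0 : List ℤ := [0,0,0,0,0,0,0,0,0,0,0,0,0,0,0,0,0,0,0,0,0,0,0,0,0,0,0,0,0,0,0,0,0,0,0,0,0,0,0,0,0,0,0,0,0,0,0,0,0,0,0,0,0,0,0,0,0,0,0,0,0,0,0,0,0,0,0,0,0,0,0,0,0,0,0,0,0,0,0]

/-- A row of the certificate. -/
def lamC1 : List ℤ := [0,0,0,0,0,0,0,0,0,0,0,0,0,0,0,0,0,0,0,0,0,0,0,0,0,0,0,0,0,0,0,0,0,0,0,0,0,0,0,0,0,0,0,0,0,0,0,0,0,0,0,0,0,0,0,0,0,0,0,0,0,0,0,0,0,0,0,0,0,0,0,0,0,0,0,0,0,0,0]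

/-- A row of the certificate. -/
def lamC2 : List ℤ := [-1,0,0,0,0,0,0,0,-1,0,0,0,0,0,1,0,-2,0,1,0,2,0,0,-1,0,2,0,-1,0,0,1,-1,-2,0,0,0,0,-3,1,0,-2,0,0,0,0,-3,-1,0,0,0,0,0,0,0,0,0,0,0,0,-2,0,0,1,1,1,0,2,-2,0,0,0,0,0,0,0,0,-1,0,0]

/-- A row of the certificate. -/
def lamC3 : List ℤ := [0,0,0,0,0,0,0,0,0,0,0,0,0,0,0,0,0,0,0,0,0,0,0,0,0,0,0,0,0,0,0,0,0,0,0,0,0,0,0,0,0,0,0,0,0,0,0,0,0,0,0,0,0,0,0,0,0,0,0,0,0,0,0,0,0,0,0,0,0,0,0,0,0,0,0,0,0,0,0]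

/-- A row of the certificate. -/
def lamC4 : List ℤ := [0,0,0,-1,0,0,0,1,-1,0,0,0,0,0,0,-1,-2,0,1,0,1,0,0,-1,0,1,0,0,0,0,0,-1,-1,0,0,0,0,0,0,0,-1,0,-1,0,0,-2,0,0,0,0,0,0,0,0,0,0,0,0,0,-1,0,0,0,0,0,0,2,-1,0,0,0,0,0,0,0,0,-1,-1,0]

/-- A row of the certificate. -/
def lamC5 : List ℤ := [0,0,1,0,0,-1,0,-1,-2,-1,0,0,-1,-1,0,1,-4,0,2,0,2,0,0,-2,0,2,0,0,0,0,0,-2,-3,0,0,0,0,0,0,0,-4,1,0,0,0,-4,0,0,0,0,0,0,0,0,0,0,0,0,0,-2,0,0,0,0,0,0,4,-2,0,0,0,0,0,0,0,0,-2,-2,0]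

/-- A row of the certificate. -/
def lamC6 : List ℤ := [0,0,0,0,0,0,0,0,0,0,0,0,0,0,0,0,0,0,0,0,0,0,0,0,0,0,0,0,0,0,0,0,0,0,0,0,0,0,0,0,0,0,0,0,0,0,0,0,0,0,0,0,0,0,0,0,0,0,0,0,0,0,0,0,0,0,0,0,0,0,0,0,0,0,0,0,0,0,0]

/-- A row of the certificate. -/
def lamC7 : List ℤ := [0,1,-2,0,0,0,0,1,3,1,0,0,0,-2,-1,-2,-4,0,1,0,2,-2,-1,2,2,6,0,-5,0,0,-2,-2,-4,0,2,4,-2,-11,5,2,-4,0,0,0,0,-4,0,-1,2,2,0,0,0,2,0,0,0,0,2,-4,0,0,-1,-1,-1,0,4,-2,-2,2,0,0,4,0,0,0,-2,3,2]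

/-- A row of the certificate. -/
def lamC8 : List ℤ := [0,-1,2,0,0,0,0,0,-4,0,0,0,0,2,0,2,4,0,-2,0,-2,2,0,-2,-2,-6,0,6,0,0,2,2,4,0,-2,-4,2,14,-6,-2,4,0,0,0,0,4,0,0,-2,-2,0,0,0,-2,0,0,0,0,-2,4,0,0,1,0,0,0,-4,2,2,-2,0,0,-4,0,0,0,2,-4,-2]

/-- A row of the certificate. -/
def lamC9 : List ℤ := [0,0,-1,0,-1,1,0,1,1,1,0,0,1,1,0,-1,2,0,-1,0,-1,0,0,1,0,-1,0,0,0,0,0,1,1,0,0,1,0,0,0,0,2,-1,0,1,0,2,0,0,0,0,0,0,0,0,0,0,0,0,0,0,0,0,0,0,0,0,-2,1,0,0,0,0,0,0,0,0,1,1,0]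

/-- A row of the certificate. -/
def lamC10 : List ℤ := [0,0,-1,0,0,0,0,1,0,1,0,0,0,0,0,-1,0,0,0,0,0,0,0,0,0,0,0,0,0,0,0,0,-1,0,0,0,0,0,0,0,0,0,0,0,0,0,0,0,0,0,0,0,0,0,0,0,0,0,0,0,0,0,0,0,0,0,0,0,0,0,0,0,0,0,0,0,0,0,0]

/-- A row of the certificate. -/
def lamC11 : List ℤ := [0,0,0,0,0,0,0,-1,0,-1,0,0,0,0,0,0,0,0,0,0,0,0,0,0,0,0,0,0,0,0,0,0,0,0,0,0,0,0,0,0,0,0,0,0,0,0,0,0,0,0,0,0,0,0,0,0,0,0,0,0,0,0,0,0,0,0,0,0,0,0,0,0,0,0,0,0,0,0,0]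

/-- A row of the certificate. -/
def lamC12 : List ℤ := [0,0,0,0,0,0,0,0,0,0,0,0,0,0,0,0,0,0,0,0,0,0,0,0,0,0,0,0,0,0,0,0,0,0,0,0,0,0,0,0,0,0,0,0,0,0,0,0,0,0,0,0,0,0,0,0,0,0,0,0,0,0,0,0,0,0,0,0,0,0,0,0,0,0,0,0,0,0,0]

/-- A row of the certificate. -/
def lamC13 : List ℤ := [0,0,-1,0,0,0,0,0,2,0,0,0,0,-1,0,-1,-2,0,1,0,1,-1,0,1,1,3,0,-3,0,0,-1,-1,-2,0,1,2,-1,-7,3,1,-2,0,0,0,0,-2,0,0,1,1,0,0,0,1,0,0,0,0,1,-2,0,0,0,0,0,0,2,-1,-1,1,0,0,2,0,0,0,-1,2,1]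

/-- A row of the certificate. -/
def lamC14 : List ℤ := [0,0,0,0,0,0,0,0,1,0,0,0,0,0,0,0,3,0,-1,0,-2,0,0,1,0,-2,0,0,0,0,0,1,2,0,0,0,0,0,0,0,2,0,0,0,0,4,0,0,0,0,0,0,0,0,0,0,0,0,0,2,0,0,0,0,0,0,-3,2,0,0,0,0,0,0,0,0,1,1,0]

/-- A row of the certificate. -/
def lamC15 : List ℤ := [0,0,0,0,0,0,0,0,0,0,0,0,0,0,0,0,0,0,0,0,0,0,0,0,0,0,0,0,0,0,0,0,0,0,0,0,0,0,0,0,0,0,0,0,0,0,0,0,0,0,0,0,0,0,0,0,0,0,0,0,0,0,0,0,0,0,0,0,0,0,0,0,0,0,0,0,0,0,0]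

/-- A row of the certificate. -/
def lamC16 : List ℤ := [0,0,0,0,0,0,0,0,0,0,0,0,0,0,0,0,0,0,0,0,0,0,0,0,0,0,0,0,0,0,0,0,0,0,0,0,0,0,0,0,0,0,0,0,0,0,0,0,0,0,0,0,0,0,0,0,0,0,0,0,0,0,0,0,0,0,0,0,0,0,0,0,0,0,0,0,0,0,0]

/-- A row of the certificate. -/
def lamC17 : List ℤ := [0,0,0,0,0,0,0,0,0,0,0,0,0,0,0,0,0,0,0,0,0,0,0,0,0,0,0,0,0,0,0,0,0,0,0,0,0,0,0,0,0,0,0,0,0,0,0,0,0,0,0,0,0,0,0,0,0,0,0,0,0,0,0,0,0,0,0,0,0,0,0,0,0,0,0,0,0,0,0]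

/-- A row of the certificate. -/
def lamC18 : List ℤ := [0,0,0,0,0,0,0,0,0,0,0,0,0,0,0,0,0,0,0,0,0,0,0,0,0,0,0,0,0,0,0,0,0,0,0,0,0,0,0,0,0,0,0,0,0,0,0,0,0,0,0,0,0,0,0,0,0,0,0,0,0,0,0,0,0,0,0,0,0,0,0,0,0,0,0,0,0,0,0]

/-- A row of the certificate. -/
def lamC19 : List ℤ := [0,0,0,0,0,0,0,0,0,0,0,0,0,0,0,0,0,0,0,0,0,0,0,0,0,0,0,0,0,0,0,0,0,0,0,0,0,0,0,0,0,0,0,0,0,0,0,0,0,0,0,0,0,0,0,0,0,0,0,0,0,0,0,0,0,0,0,0,0,0,0,0,0,0,0,0,0,0,0]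

/-- A row of the certificate. -/
def lamC20 : List ℤ := [0,0,0,0,0,0,0,0,0,0,0,0,0,0,0,0,0,0,0,0,0,0,0,0,0,0,0,0,0,0,0,0,0,0,0,0,0,0,0,0,0,0,0,0,0,0,0,0,0,0,0,0,0,0,0,0,0,0,0,0,0,0,0,0,0,0,0,0,0,0,0,0,0,0,0,0,0,0,0]

/-- A row of the certificate. -/
def lamC21 : List ℤ := [0,0,0,0,0,0,0,0,0,0,0,0,0,0,0,0,0,0,0,0,0,0,0,0,0,0,0,0,0,0,0,0,0,0,0,0,0,0,0,0,0,0,1,0,0,0,0,0,0,0,0,0,0,0,0,0,0,0,0,0,0,0,0,0,0,0,0,0,0,0,0,0,0,0,0,0,0,0,0]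

/-- A row of the certificate. -/
def lamC22 : List ℤ := [0,0,-1,0,0,0,0,0,3,0,0,0,0,-1,0,-1,-2,0,1,0,1,0,0,1,1,3,0,-3,0,0,0,-1,-2,0,1,2,-1,-7,3,1,-2,0,0,0,0,-2,0,0,0,0,0,0,0,0,0,0,0,0,0,-2,0,0,0,0,1,0,2,-1,-1,0,0,0,2,0,0,0,-1,3,1]

/-- A row of the certificate. -/
def lamC23 : List ℤ := [0,0,2,0,0,0,0,0,-7,0,-1,1,0,2,0,2,4,0,-2,0,-2,2,0,-2,-2,-7,0,6,0,0,0,2,4,0,-2,-4,2,16,-6,-2,4,0,0,0,0,4,0,0,-1,-1,0,0,0,-2,-1,0,0,0,-2,4,0,0,0,0,-2,0,-4,2,2,0,0,0,-4,1,0,0,2,-7,-2]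

/-- A row of the certificate. -/
def lamC24 : List ℤ := [0,0,1,0,0,0,0,0,-3,0,0,0,0,1,0,1,2,0,-1,0,-1,1,0,-1,-1,-3,0,3,0,0,0,1,2,0,-1,-2,1,8,-3,-1,2,0,0,0,0,2,0,0,-1,-1,0,0,0,-1,0,0,0,0,-1,2,0,0,0,0,-1,0,-2,1,1,0,0,0,-2,0,0,0,1,-3,-1]

/-- A row of the certificate. -/
def lamC25 : List ℤ := [0,0,0,0,0,0,0,0,0,0,0,0,0,0,0,0,0,0,0,0,0,0,0,0,0,0,0,0,0,0,0,0,0,0,0,0,0,0,0,0,0,0,0,-1,0,0,0,0,0,0,0,0,0,0,0,0,0,0,0,0,0,0,0,0,0,0,0,0,0,0,0,0,0,0,0,0,0,0,0]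

/-- A row of the certificate. -/
def lamC26 : List ℤ := [0,0,0,0,0,0,0,0,1,0,0,0,0,0,0,0,2,0,-1,0,-1,0,0,1,0,-1,0,0,0,0,0,1,2,0,0,0,0,0,0,0,2,0,0,0,0,2,0,0,0,0,0,0,0,0,0,0,0,0,0,1,0,0,0,0,0,0,-2,1,0,0,0,0,0,0,0,0,1,1,0]

/-- A row of the certificate. -/
def lamC27 : List ℤ := [0,0,1,0,0,0,0,0,-1,0,0,0,0,0,0,1,0,0,0,0,0,0,0,0,0,-1,0,1,0,0,0,0,0,0,-1,-1,1,2,-1,0,0,0,0,0,0,0,0,0,0,0,0,0,0,0,0,1,0,0,0,0,0,0,0,0,0,0,0,0,0,0,0,0,-1,0,0,0,0,-1,-1]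

/-- A row of the certificate. -/
def lamC28 : List ℤ := [0,0,0,0,0,0,0,0,0,0,0,0,0,0,0,0,0,0,0,0,0,0,0,0,0,0,0,0,0,0,0,0,0,0,0,0,0,0,0,0,0,0,0,0,0,0,0,0,0,0,0,0,0,0,0,0,0,0,0,0,0,0,0,0,0,0,0,0,0,0,0,0,0,0,0,0,0,0,0]

/-- A row of the certificate. -/
def lamC29 : List ℤ := [0,0,0,0,0,0,0,0,0,0,0,0,0,0,0,0,0,0,0,0,0,0,0,0,0,0,0,0,0,0,0,0,0,0,0,0,0,0,0,0,0,0,0,0,0,0,0,0,0,0,0,0,0,0,0,0,0,0,0,0,0,0,0,0,0,0,0,0,0,0,0,0,0,0,0,0,0,0,0]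

/-- A row of the certificate. -/
def lamC30 : List ℤ := [0,0,0,0,0,0,0,0,0,0,0,0,0,0,0,1,0,0,0,0,0,0,0,0,0,0,0,0,0,0,0,0,0,0,0,0,0,0,0,0,0,0,0,0,0,0,0,0,0,0,0,0,0,0,0,0,0,0,0,0,0,0,0,0,0,0,0,0,0,0,0,1,0,0,0,0,0,0,0]

/-- A row of the certificate. -/
def lamC31 : List ℤ := [0,0,2,0,1,0,0,-1,-6,0,0,0,-1,-2,0,1,-2,-1,0,-1,1,1,0,-1,-1,-2,0,3,0,0,1,-1,-2,0,0,-2,1,7,-3,-1,-2,1,1,-1,-1,-2,0,0,-1,0,0,0,0,-1,1,-1,0,0,-1,-1,0,-1,0,0,0,0,2,-1,0,0,1,-1,-1,0,0,0,-1,-6,0]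

/-- A row of the certificate. -/
def lamC32 : List ℤ := [0,0,1,0,0,0,0,0,-1,0,0,0,0,1,0,1,2,0,-1,0,-1,0,0,0,0,-2,0,1,0,0,0,1,2,0,-1,-1,1,3,-1,0,2,0,0,0,0,2,0,0,0,0,0,0,0,0,0,1,0,0,0,2,0,0,0,0,-1,0,-2,1,1,0,0,0,-1,0,0,0,1,-1,-1]

/-- A row of the certificate. -/
def lamC33 : List ℤ := [0,0,0,0,0,0,0,0,-1,0,0,0,0,0,0,0,0,0,0,0,0,-1,0,0,0,0,0,0,0,0,-1,0,0,0,0,0,0,0,0,0,0,0,0,0,0,0,0,0,1,1,0,0,0,1,0,0,0,0,1,0,0,0,0,0,-1,0,0,0,0,1,0,0,0,0,0,-1,0,-1,0]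

/-- A row of the certificate. -/
def lamC34 : List ℤ := [0,0,0,0,0,0,0,0,0,0,0,0,0,0,0,0,0,0,0,0,0,0,0,0,0,0,0,0,0,0,0,0,0,0,0,0,0,0,0,0,0,0,0,0,0,0,1,0,0,0,0,0,0,0,0,0,0,0,0,0,0,0,0,0,0,0,0,0,0,0,0,0,0,0,0,0,0,0,0]

/-- A row of the certificate. -/
def lamC35 : List ℤ := [0,0,0,0,0,0,0,0,-1,0,0,0,0,0,0,0,-4,0,1,0,2,0,0,-1,0,2,0,0,0,0,0,-1,-2,0,0,0,0,0,0,0,-2,0,0,0,0,-4,0,0,0,0,0,0,0,0,0,0,0,0,0,-2,0,0,0,0,0,0,4,-2,0,0,0,0,0,0,0,0,-1,-1,0]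

/-- A row of the certificate. -/
def lamC36 : List ℤ := [0,0,1,0,1,0,0,0,-2,0,0,0,-1,-1,0,1,-2,-1,0,0,1,0,0,0,0,-1,0,0,0,0,0,-1,-2,0,0,-1,0,0,0,0,-2,1,1,-1,0,-2,0,0,0,0,0,0,0,0,1,0,0,-1,0,-1,0,-1,0,0,0,0,2,-1,0,0,0,0,0,0,0,0,-1,-2,0]

/-- A row of the certificate. -/
def lamC37 : List ℤ := [0,0,0,0,0,0,0,0,0,0,0,0,0,0,0,0,0,0,0,0,0,0,0,0,0,0,0,0,0,0,0,0,0,0,0,0,0,0,0,0,0,0,0,0,0,0,0,0,0,1,0,0,0,0,0,0,0,0,0,0,0,0,0,0,0,0,0,0,0,0,0,0,0,0,0,0,0,0,0]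

/-- A row of the certificate. -/
def lamC38 : List ℤ := [0,0,1,0,0,0,0,0,-3,0,0,0,0,1,0,1,2,0,-1,0,-1,1,0,-1,-1,-3,0,3,0,0,1,1,2,0,-1,-2,1,8,-3,-1,2,0,0,0,0,2,0,0,-1,-1,0,0,0,-1,0,0,0,1,-1,2,0,0,0,0,-1,0,-2,1,1,0,0,0,-2,0,0,0,1,-3,-1]

/-- A row of the certificate. -/
def lamC39 : List ℤ := [0,0,0,0,0,0,0,0,-1,0,0,0,0,0,0,0,0,0,0,0,0,0,0,0,0,0,0,0,0,0,0,0,0,0,0,0,0,0,0,0,0,0,0,0,0,0,0,0,0,0,0,0,0,0,0,0,0,0,0,0,0,0,0,1,0,0,0,0,0,0,0,0,0,0,0,0,0,-1,0]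

/-- A row of the certificate. -/
def lamC40 : List ℤ := [0,0,0,0,0,0,0,0,0,0,0,0,0,0,0,0,0,0,0,0,0,0,0,0,0,0,0,0,0,0,0,0,0,0,0,0,0,0,0,0,0,0,0,0,0,0,0,0,0,0,0,0,0,0,0,0,0,0,0,0,0,0,0,0,0,-1,0,0,0,0,0,0,0,0,0,0,0,0,0]

/-- A row of the certificate. -/
def lamC41 : List ℤ := [0,0,0,0,0,0,0,0,1,0,0,0,0,0,0,0,3,0,-1,0,-2,0,0,1,0,-2,0,0,0,0,0,1,2,0,0,0,0,0,0,0,2,0,0,0,0,3,0,0,0,0,0,0,0,0,0,0,0,0,0,2,0,0,0,0,0,0,-3,2,0,0,0,0,0,0,0,0,1,1,0]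

/-- A row of the certificate. -/
def lamC42 : List ℤ := [0,0,0,0,0,0,0,0,0,0,0,0,0,0,0,0,0,0,0,0,0,0,0,0,0,0,0,0,0,0,0,0,0,0,0,0,0,0,0,0,0,0,0,0,0,0,0,0,0,0,0,0,0,0,0,0,0,0,0,0,0,0,-1,0,0,0,0,0,0,0,0,0,0,0,0,0,0,0,0]

/-- A row of the certificate. -/
def lamC43 : List ℤ := [0,0,0,0,0,0,0,0,1,0,0,0,0,0,0,0,0,0,0,0,0,0,0,0,0,0,0,0,0,-1,0,0,0,0,0,0,0,-1,0,0,0,0,0,0,0,0,0,0,0,0,0,0,0,0,0,0,0,0,0,0,1,0,0,0,0,0,0,0,0,0,0,0,0,0,0,0,0,1,0]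

/-- A row of the certificate. -/
def lamC44 : List ℤ := [0,0,4,0,0,0,0,-1,-14,-1,-1,2,0,4,0,4,8,0,-4,0,-4,4,0,-5,-4,-14,0,12,0,0,-1,4,8,0,-4,-8,4,32,-12,-4,8,0,0,0,0,8,0,0,-2,-2,0,1,0,-4,-2,0,0,0,-4,8,0,0,0,0,-4,0,-8,4,4,0,0,0,-8,2,0,0,4,-14,-4]

/-- A row of the certificate. -/
def lamC45 : List ℤ := [0,0,-1,0,0,0,0,0,3,0,0,0,0,-1,0,-1,-2,0,1,0,1,-1,0,1,1,3,0,-3,0,0,0,-1,-2,0,1,2,-1,-7,3,1,-2,0,0,0,0,-2,0,0,0,0,0,0,0,0,0,0,0,0,1,-2,0,0,0,0,1,0,2,-1,-1,0,0,0,2,0,0,0,-1,3,1]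

/-- A row of the certificate. -/
def lamC46 : List ℤ := [0,0,0,0,0,0,0,0,1,0,0,0,0,0,0,0,0,0,0,0,0,0,0,0,0,0,0,0,0,0,0,0,0,0,0,0,0,-1,0,0,0,0,0,0,0,0,0,0,0,0,0,0,0,0,0,0,0,0,0,0,0,0,0,0,1,0,0,0,0,0,0,0,0,0,0,0,0,1,0]

/-- A row of the certificate. -/
def lamC47 : List ℤ := [0,0,0,0,0,0,0,0,0,0,0,0,0,0,0,0,0,0,0,0,0,0,0,0,0,0,0,0,0,0,0,0,0,0,0,0,0,0,0,0,0,0,0,0,0,0,0,1,0,0,0,0,0,0,0,0,0,0,0,0,0,0,0,0,0,0,0,0,0,0,0,0,0,0,0,0,0,0,0]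

/-- A row of the certificate. -/
def lamC48 : List ℤ := [0,0,1,0,0,0,0,0,-2,0,0,0,0,1,0,1,2,0,-1,0,-1,0,0,-1,-1,-3,0,2,0,0,0,1,2,0,-1,-1,1,5,-2,-1,2,0,0,0,0,2,0,0,0,0,0,0,0,0,0,1,0,0,0,2,0,0,0,0,-1,0,-2,1,1,0,0,0,-1,0,0,0,1,-2,-1]

/-- A row of the certificate. -/
def lamC49 : List ℤ := [0,0,0,0,0,0,0,0,0,0,0,0,0,0,0,0,0,0,0,0,0,0,0,0,0,0,0,0,0,0,0,0,0,0,0,0,0,0,0,0,0,0,0,0,0,0,0,0,0,0,0,0,1,0,0,0,0,0,0,0,0,0,0,0,0,0,0,0,0,0,0,0,0,0,0,0,0,0,0]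

/-- A row of the certificate. -/
def lamC50 : List ℤ := [0,0,1,0,0,0,0,0,-3,0,0,0,0,1,0,1,2,0,-1,0,-1,1,0,-1,-1,-3,0,3,0,0,0,1,2,0,-1,-2,1,8,-3,-1,2,0,0,0,0,2,0,0,-1,-1,0,0,0,-1,1,0,0,0,-1,2,0,0,0,0,-1,0,-2,1,1,0,0,0,-2,0,0,0,1,-3,-1]

/-- A row of the certificate. -/
def lamC51 : List ℤ := [0,0,0,0,0,0,0,0,0,0,0,0,0,0,0,0,0,0,0,0,0,0,0,0,0,0,0,0,0,0,0,0,0,0,0,-1,0,0,0,0,0,0,0,0,0,0,0,0,0,0,0,0,0,0,0,0,0,0,0,0,0,0,0,0,0,0,0,0,0,0,0,0,0,0,0,0,0,0,0]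

/-- A row of the certificate. -/
def lamC52 : List ℤ := [0,0,0,0,0,0,0,0,0,0,0,0,0,0,0,0,0,0,0,0,0,0,0,0,0,0,0,0,0,0,0,0,0,0,0,0,0,0,0,0,0,0,0,0,-1,0,0,0,0,0,0,0,0,0,0,0,0,0,0,0,0,0,0,0,0,0,0,0,0,0,0,0,0,0,0,0,0,0,0]

/-- A row of the certificate. -/
def lamC53 : List ℤ := [0,0,0,0,0,0,0,0,1,0,0,0,0,0,0,0,2,0,-1,0,-1,0,0,1,0,-1,0,0,0,0,0,1,2,0,0,0,0,0,0,0,2,0,0,0,0,2,0,0,0,0,0,0,0,0,0,0,0,0,0,2,0,0,0,0,0,0,-2,1,0,0,0,0,0,0,0,0,1,1,0]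

/-- A row of the certificate. -/
def lamC54 : List ℤ := [0,0,0,0,0,0,0,0,-1,0,0,0,0,0,0,0,0,0,0,-1,0,0,0,0,0,0,0,1,0,0,0,0,0,0,0,0,0,2,-1,0,0,0,0,0,0,0,0,0,0,0,0,0,0,0,0,0,0,0,0,0,0,0,0,0,0,0,0,0,0,0,0,0,0,0,0,0,0,-1,0]

/-- A row of the certificate. -/
def lamC55 : List ℤ := [0,0,0,0,0,0,0,0,1,0,0,0,0,0,0,0,0,0,0,0,0,0,0,0,0,0,0,0,0,0,0,0,0,0,0,0,0,0,0,0,0,0,0,0,0,0,0,0,0,0,0,0,0,0,0,0,0,0,0,0,0,0,0,0,0,0,0,0,0,0,0,0,0,0,0,0,0,1,0]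

/-- A row of the certificate. -/
def lamC56 : List ℤ := [0,0,0,0,0,0,0,0,-1,0,0,0,0,0,0,0,0,0,0,0,0,0,0,0,0,0,0,0,0,0,0,0,0,0,0,0,0,1,0,0,0,0,0,0,0,0,0,0,0,0,0,0,0,0,0,0,0,0,0,0,0,0,0,0,0,0,0,0,0,0,0,0,0,0,0,0,0,-1,0]

/-- A row of the certificate. -/
def lamC57 : List ℤ := [0,0,-1,0,0,0,0,0,3,0,0,0,0,-1,0,-1,-2,0,1,0,1,0,0,1,1,3,0,-3,-1,0,0,-1,-2,0,1,2,-1,-7,3,1,-2,0,0,0,0,-2,0,0,0,0,0,0,0,0,0,-1,1,0,0,-2,0,0,0,0,1,0,2,-1,-1,0,0,0,2,0,0,0,-1,3,1]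

/-- A row of the certificate. -/
def lamC58 : List ℤ := [0,0,4,0,0,0,1,-1,-14,-1,-1,2,0,4,0,4,8,0,-4,0,-4,4,0,-5,-4,-14,0,12,0,0,-1,4,8,0,-4,-8,4,32,-12,-4,8,0,0,0,0,8,0,0,-2,-2,0,1,0,-4,-2,0,0,0,-4,8,0,0,0,0,-4,0,-8,4,4,0,0,0,-8,2,-1,0,4,-14,-4]

/-- A row of the certificate. -/
def lamC59 : List ℤ := [0,0,-1,0,0,0,0,0,4,0,0,0,0,-1,0,-1,-2,0,1,0,1,-1,0,1,1,3,0,-3,0,0,0,-1,-2,0,1,2,-1,-8,3,1,-2,0,0,0,0,-2,0,0,0,0,0,0,0,1,0,0,0,0,1,-2,0,0,0,0,1,0,2,-1,-1,0,0,0,2,0,0,0,-1,4,1]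

/-- A row of the certificate. -/
def lamC60 : List ℤ := [0,0,0,0,0,0,0,0,-1,0,0,0,0,0,0,0,-2,0,1,0,1,0,0,-1,0,1,0,0,0,0,0,-1,-1,0,0,0,0,0,0,0,-1,0,0,0,0,-2,0,0,0,0,0,0,0,0,0,0,0,0,0,-1,0,0,0,0,0,0,2,-1,0,0,0,0,0,0,0,0,-1,-1,0]

/-- A row of the certificate. -/
def lamC61 : List ℤ := [0,0,0,0,0,0,0,0,1,0,0,0,1,0,0,0,2,0,-1,0,-1,0,0,1,0,-1,0,0,0,0,0,1,2,0,0,0,0,0,0,0,2,-1,0,0,0,2,0,0,0,0,0,0,0,0,0,0,0,0,0,1,0,0,0,0,0,0,-2,1,0,0,0,0,0,0,0,0,1,1,0]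

/-- A row of the certificate. -/
def lamC62 : List ℤ := [0,0,0,0,0,0,0,0,0,0,0,0,0,1,0,0,0,0,0,0,0,0,0,0,0,0,0,0,0,0,0,0,0,0,0,0,0,0,0,0,0,0,0,0,0,0,0,0,0,0,0,0,0,0,0,0,0,0,0,0,0,0,0,0,0,0,0,0,0,0,0,0,0,0,0,0,0,0,0]

/-- A row of the certificate. -/
def lamC63 : List ℤ := [0,0,0,0,0,0,0,0,-1,0,0,0,0,0,0,0,0,0,0,0,0,0,0,0,-1,0,0,1,0,0,0,0,0,0,0,0,0,2,-1,0,0,0,0,0,0,0,0,0,0,0,0,0,0,0,0,0,0,0,0,0,0,0,0,0,0,0,0,0,0,0,0,0,0,0,0,0,0,-1,0]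

/-- A row of the certificate. -/
def lamC64 : List ℤ := [0,0,0,0,0,0,0,0,1,0,0,0,0,0,0,0,0,0,0,0,0,0,0,0,0,0,0,0,0,0,0,0,0,-1,0,0,0,0,0,0,0,0,0,0,0,0,0,0,0,0,1,0,0,0,0,0,0,0,0,0,0,0,0,0,0,0,0,0,0,0,0,0,0,0,0,0,0,1,0]

/-- A row of the certificate. -/
def lamC65 : List ℤ := [0,0,0,0,0,0,0,0,0,0,0,0,0,0,0,0,0,0,0,0,0,0,0,0,0,0,0,0,0,-1,0,0,0,0,0,0,0,0,0,0,0,0,0,0,0,0,0,0,0,0,0,0,0,0,0,0,0,0,0,0,0,0,0,0,0,0,0,0,0,0,0,0,0,0,0,0,0,0,0]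

/-- A row of the certificate. -/
def lamC66 : List ℤ := [0,0,0,0,0,0,0,0,0,0,0,0,0,0,0,0,0,0,0,0,0,0,0,0,0,0,0,0,0,0,0,0,0,0,0,0,-1,0,0,0,0,0,0,0,0,0,0,0,0,0,0,0,0,0,0,0,0,0,0,0,0,0,0,0,0,0,0,0,0,0,0,0,0,0,0,0,0,0,0]

/-- A row of the certificate. -/
def lamC67 : List ℤ := [0,0,-1,0,0,0,0,0,3,0,0,0,0,-1,0,-1,-2,0,1,0,1,0,0,1,1,3,0,-3,0,0,0,-1,-2,0,1,2,-1,-7,3,1,-2,0,0,0,0,-2,0,0,0,0,0,0,0,0,0,-1,0,0,0,-2,0,0,0,0,1,0,2,-1,-1,0,0,0,2,0,0,0,-1,3,1]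

/-- A row of the certificate. -/
def lamC68 : List ℤ := [0,0,0,0,0,0,0,0,1,0,0,0,0,0,0,0,0,0,0,0,0,0,0,0,0,0,0,0,0,0,0,0,0,0,0,0,0,0,0,0,0,0,0,0,0,0,0,0,0,0,0,0,0,0,0,0,0,0,0,0,0,0,0,0,0,0,0,0,0,0,0,0,0,0,0,0,0,0,0]

/-- A row of the certificate. -/
def lamC69 : List ℤ := [0,0,0,0,0,0,0,0,0,0,0,0,0,0,0,0,0,0,0,0,0,0,0,0,0,0,0,0,0,0,-1,0,0,0,0,0,0,0,0,0,0,0,0,0,0,0,0,0,0,0,0,0,0,0,0,0,0,0,0,0,0,0,0,0,0,0,0,0,0,0,0,0,0,0,0,0,0,0,0]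

/-- A row of the certificate. -/
def lamC70 : List ℤ := [0,0,0,0,0,0,0,0,1,0,0,0,0,0,0,1,2,0,-1,0,-1,0,0,1,0,-1,0,0,0,0,0,1,1,0,0,0,0,0,0,0,1,0,0,0,0,2,0,0,0,0,0,0,0,0,0,0,0,0,0,1,0,0,0,0,0,0,-2,1,0,0,0,0,0,0,0,0,1,1,0]

/-- A row of the certificate. -/
def lamC71 : List ℤ := [0,0,0,0,0,0,0,0,0,1,0,0,0,0,0,0,0,0,0,0,0,0,0,0,0,0,0,0,0,0,0,0,0,0,0,0,0,0,0,0,0,0,0,0,0,0,0,0,0,0,0,0,0,0,0,0,0,0,0,0,0,0,0,0,0,0,0,0,0,0,0,0,0,0,0,0,0,0,0]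

/-- A row of the certificate. -/
def lamC72 : List ℤ := [0,0,0,0,0,0,0,0,0,0,0,0,0,0,0,0,0,0,0,0,0,0,0,-1,0,0,0,0,0,0,0,0,0,0,0,0,0,0,0,0,0,0,0,0,0,0,0,0,0,0,0,0,0,0,0,0,0,0,0,0,0,0,0,0,0,0,0,0,0,0,0,0,0,0,0,0,0,0,0]

/-- A row of the certificate. -/
def lamC73 : List ℤ := [0,0,0,0,0,0,0,0,1,0,0,0,0,0,0,0,0,0,0,0,0,0,0,0,0,0,0,-1,0,0,0,0,0,0,0,0,0,-2,1,0,0,0,0,0,0,0,0,0,0,0,0,0,0,0,0,0,0,0,0,0,0,0,0,0,0,0,0,0,0,0,0,0,0,0,0,0,0,1,0]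

/-- A row of the certificate. -/
def lamC74 : List ℤ := [0,0,0,0,0,0,0,0,0,0,0,0,0,0,0,0,0,0,1,0,0,0,0,0,0,0,0,0,0,0,0,0,0,0,0,0,0,0,0,0,0,0,0,0,0,0,0,0,0,0,0,0,0,0,0,0,0,0,0,0,0,0,0,0,0,0,0,0,0,0,0,0,0,0,0,0,0,0,0]

/-- A row of the certificate. -/
def lamC75 : List ℤ := [0,0,0,0,0,0,0,0,0,0,0,0,0,0,0,0,0,0,0,0,0,0,1,0,0,0,0,0,0,0,0,0,0,0,0,0,0,0,0,0,0,0,0,0,0,0,0,0,0,0,0,0,0,0,0,0,0,0,0,0,0,0,0,0,0,0,0,0,0,0,0,0,0,0,0,0,0,0,0]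

/-- A row of the certificate. -/
def lamC76 : List ℤ := [0,0,0,0,0,0,0,0,0,0,0,0,0,0,0,0,0,0,0,0,0,0,0,0,0,1,0,0,0,0,0,0,0,0,0,0,0,0,0,0,0,0,0,0,0,0,0,0,0,0,0,0,0,0,0,0,0,0,0,0,0,0,0,0,0,0,0,0,0,0,0,0,0,0,0,0,0,0,0]

/-- A row of the certificate. -/
def lamC77 : List ℤ := [0,0,0,0,0,0,0,0,0,0,0,0,0,0,0,0,0,0,0,0,0,0,0,0,0,0,0,0,0,0,0,0,1,0,0,0,0,0,0,0,0,0,0,0,0,0,0,0,0,0,0,0,0,0,0,0,0,0,0,0,0,0,0,0,0,0,0,0,0,0,0,0,0,0,0,0,0,0,0]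

/-- Certificate data. -/
def dataC : Engine.Data where
  p := 2
  n := 12
  rhs := rhsTwo
  ord := [2,2,2,2,2,2,2,2,2,2,2,2]
  eqs := [
    .cons [1,1] [0],
    .cons [2,2] [0],
    .cons [3,3] [0],
    .cons [3,3] [1],
    .cons [3,3] [2],
    .cons [4,4] [0],
    .cons [4,4] [1],
    .cons [4,4] [2],
    .cons [4,2] [1],
    .cons [4,3] [1],
    .cons [5,5] [1],
    .cons [5,5] [2],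
    .cons [5,5] [4],
    .cons [5,4] [0],
    .cons [6,6] [1],
    .cons [6,5] [3],
    .cons [7,7] [2],
    .cons [7,7] [3],
    .cons [7,4] [2],
    .cons [7,6] [3],
    .cons [8,8] [1],
    .cons [8,8] [5],
    .cons [8,5] [1],
    .cons [8,5] [4],
    .cons [8,6] [3],
    .cons [9,5] [1],
    .cons [9,9] [6],
    .cons [9,9] [8],
    .cons [10,10] [0],
    .cons [10,2] [0],
    .cons [10,2] [1],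
    .cons [10,10] [3],
    .cons [10,3] [0],
    .cons [10,10] [7],
    .cons [11,11] [0],
    .fus 0 [6] [3] [6,9] [3],
    .fus 0 [10] [6] [10] [6,9],
    .fus 0 [7,8] [6] [7,8] [6,9],
    .fus 0 [6,9] [7] [6] [7,11],
    .fus 0 [6,10] [0,5] [6,9,10] [0,10],
    .fus 1 [5] [4] [3,11] [3,10,11],
    .fus 2 [9] [4] [4,5,9,10] [4],
    .fus 3 [11] [4] [3,11] [4],
    .fus 3 [3,5] [11] [3,5] [3,11],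
    .fus 4 [5] [4] [5,9] [4],
    .fus 4 [2,4] [1] [1,4,8] [1],
    .fus 4 [2,7] [1] [2] [1],
    .fus 4 [7,8] [2,7] [7,8] [2],
    .fus 4 [4,9] [2,7] [5,9,10] [2],
    .fus 4 [4,11] [2,8] [4,11] [2,7,8],
    .fus 4 [1,2,7] [9,10] [1,2] [9,10],
    .fus 5 [1,4,7] [1,7] [2,4,7,8,11] [2,7,8],
    .fus 6 [1,11] [5,10] [1,11] [5,9,10],
    .fus 7 [8,10] [2,10] [2,5,8,9,10,11] [2,5,9,10,11],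
    .fus 8 [2,11] [4,5] [2,11] [4,9],
    .fus 9 [5] [0] [11] [0],
    .fus 9 [8] [0] [0,8,10,11] [0],
    .fus 9 [2,7] [5] [2,7] [11],
    .fus 9 [2,7,10] [0] [2,5,7,10] [0],
    .fus 9 [2,7,10] [4,9] [2,5,7,10] [4,9],
    .fus 10 [0,8] [3] [8] [9,11],
    .fus 11 [4,5,9] [2,4,7] [3,4] [0,2,4,7],
    .fus 12 [11] [2] [8,11] [2],
    .fus 13 [7] [6] [7] [9],
    .fus 13 [8] [6] [8] [9],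
    .fus 13 [10] [0] [8,10] [0],
    .fus 14 [11] [2] [1,2,7,11] [2],
    .fus 15 [7] [2] [9] [5,9,11],
    .fus 16 [0,6,8] [5,6] [0,8,9] [0,5,8,9],
    .fus 17 [2,5,8,9] [2] [0,6,8,9,11] [2],
    .fus 18 [0,2,3,6] [3,4,5] [0,2,3,7] [3,4,5],
    .fus 19 [0,5,6,8] [3,10,11] [0,5,8,10,11] [3,10,11],
    .fus 20 [0,6,11] [0,6] [0,3,10,11] [0,9,10,11],
    .fus 21 [1,2] [5] [2] [5,9,10,11],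
    .fus 22 [10,11] [8,11] [4,10] [1,8],
    .fus 23 [5,7,9] [2,9] [0,5,7,8,9,10,11] [0,2,8,9,10,11],
    .fus 24 [2,7,9] [2,5,9] [2,7,9] [5],
    .fus 25 [9] [7] [4,11] [1,4,11],
    .fus 26 [0] [6,9] [0] [5]]
  comp := [
    compC0,
    compC1,
    compC2,
    compC3,
    compC4,
    compC5,
    compC6,
    compC7,
    compC8,
    compC9,
    compC10,
    compC11]
  coord := [
    coordC0,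
    coordC1,
    coordC2,
    coordC3,
    coordC4,
    coordC5,
    coordC6,
    coordC7,
    coordC8,
    coordC9,
    coordC10,
    coordC11,
    coordC12,
    coordC13,
    coordC14,
    coordC15,
    coordC16,
    coordC17,
    coordC18,
    coordC19,
    coordC20,
    coordC21,
    coordC22,
    coordC23,
    coordC24,
    coordC25,
    coordC26,
    coordC27,
    coordC28,
    coordC29,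
    coordC30,
    coordC31,
    coordC32,
    coordC33,
    coordC34,
    coordC35,
    coordC36,
    coordC37,
    coordC38,
    coordC39,
    coordC40,
    coordC41,
    coordC42,
    coordC43,
    coordC44,
    coordC45,
    coordC46,
    coordC47,
    coordC48,
    coordC49,
    coordC50,
    coordC51,
    coordC52,
    coordC53,
    coordC54,
    coordC55,
    coordC56,
    coordC57,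
    coordC58,
    coordC59,
    coordC60,
    coordC61,
    coordC62,
    coordC63,
    coordC64,
    coordC65,
    coordC66,
    coordC67,
    coordC68,
    coordC69,
    coordC70,
    coordC71,
    coordC72,
    coordC73,
    coordC74,
    coordC75,
    coordC76,
    coordC77]
  scale := 2
  back := [
    [0,0,1,0,0,0,0,0,0,0,0,0],
    [0,1,0,0,0,0,0,0,0,0,0,0],
    [-2,0,0,0,0,0,0,0,0,0,2,0],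
    [0,0,0,1,0,0,0,0,0,0,0,0],
    [0,0,0,0,0,0,-2,0,0,0,0,2],
    [0,0,0,0,0,2,0,0,0,-2,0,-2],
    [0,0,0,0,0,0,0,1,0,0,0,0],
    [0,0,0,0,2,0,0,0,0,0,-2,0],
    [0,0,0,0,-2,0,0,0,0,0,0,2],
    [0,0,0,0,0,-2,0,0,-2,2,0,2],
    [0,0,0,0,0,-2,0,0,0,0,0,2],
    [0,0,0,0,0,0,0,0,0,0,0,-2]]
  lam := [
    lamC0,
    lamC1,
    lamC2,
    lamC3,
    lamC4,
    lamC5,
    lamC6,
    lamC7,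
    lamC8,
    lamC9,
    lamC10,
    lamC11,
    lamC12,
    lamC13,
    lamC14,
    lamC15,
    lamC16,
    lamC17,
    lamC18,
    lamC19,
    lamC20,
    lamC21,
    lamC22,
    lamC23,
    lamC24,
    lamC25,
    lamC26,
    lamC27,
    lamC28,
    lamC29,
    lamC30,
    lamC31,
    lamC32,
    lamC33,
    lamC34,
    lamC35,
    lamC36,
    lamC37,
    lamC38,
    lamC39,
    lamC40,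
    lamC41,
    lamC42,
    lamC43,
    lamC44,
    lamC45,
    lamC46,
    lamC47,
    lamC48,
    lamC49,
    lamC50,
    lamC51,
    lamC52,
    lamC53,
    lamC54,
    lamC55,
    lamC56,
    lamC57,
    lamC58,
    lamC59,
    lamC60,
    lamC61,
    lamC62,
    lamC63,
    lamC64,
    lamC65,
    lamC66,
    lamC67,
    lamC68,
    lamC69,
    lamC70,
    lamC71,
    lamC72,
    lamC73,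
    lamC74,
    lamC75,
    lamC76,
    lamC77]
  zeta := [0,0,0,0,0,0,0,0,0,0,0,0,0,0,0,0,0,0,0,1,0,0,0,0,0,0,0,0,0,0,0,0,0,0,0,0,0,0,0,0,0,0,0,0,0,0,0,0,0,0,0,0,0,0,0,0,0,0,0,0,0,0,0,0,0,0,0,0,0,0,0,0,0,0,0,0,0,0]
  mu := [0,0,0,0,-1,-2,0,3,-4,1,0,0,0,2,1,0,0,0,0,1,0,0,3,-7,-3,0,1,-1,0,0,0,-6,-1,-1,0,-1,-2,0,-3,-1,0,1,0,1,-15,3,1,0,-2,0,-3,0,0,1,-1,1,-1,3,-14,4,-1,1,0,-1,1,0,0,3,0,0,1,0,0,1,0,0,0,0]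
  bound := 2
  lamz := [0,0,0,0,0,0,0,0,-2,0,0,0,0,0,0,0,0,0,0,-2,0,0,0,0,0,0,1,2,0,0,0,0,0,0,0,0,0,4,-2,0,0,0,0,0,0,0,0,0,0,0,0,0,0,0,0,0,0,0,0,0,0,0,0,0,0,0,0,0,0,0,0,0,0,0,0,0,0,-2,0]

end Cfsg.Agent.Lib.SchurMult.PlusEight
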